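import Cfsg.Agent.GHB.Invol
import Cfsg.Agent.Solv.HaradaE8

/-! Extensions of a 2-group by `A₅` of sectional 2-rank at most four. -/

set_option autoImplicit false

namespace Cfsg.Lib.GHB

open Subgroup Cfsg.Lib.Solv Cfsg.Lib.Solv.PG
open scoped commutatorElement

universe u

variable {X : Type u} [Group X] {K B Q W D H L N : Subgroup X} {g a d f x y : X}

theorem mk_mem_map [N.Normal] (h : N ≤ H) :
    QuotientGroup.mk' N x ∈ H.map (QuotientGroup.mk' N) ↔ x ∈ H := by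
  rw [← mem_comap, comap_map_eq_self (by rwa [QuotientGroup.ker_mk'])]

theorem simple_quot [N.Normal] (hs : ∀ H : Subgroup X, H.Normal → Q ≤ H → H = Q ∨ H = ⊤)
    (H : Subgroup (X ⧸ N)) (hH : H.Normal) (h : Q.map (QuotientGroup.mk' N) ≤ H) :
    H = Q.map (QuotientGroup.mk' N) ∨ H = ⊤ := by
  have e := map_comap_eq_self_of_surjective (QuotientGroup.mk'_surjective N) H
  rcases hs (H.comap (QuotientGroup.mk' N)) (hH.comap _) (map_le_iff_le_comap.1 h) with e1 | e1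
  · exact Or.inl (by rw [← e, e1])
  · exact Or.inr (by rw [← e, e1, map_top_of_surjective _ (QuotientGroup.mk'_surjective N)])

theorem min_facts [Finite X] [Q.Normal] (hQ : IsPGroup 2 Q) (hN : IsMinNormal N) (h : N ≤ Q) :
    (∀ n ∈ N, n * n = 1) ∧ ∀ q ∈ Q, ∀ n ∈ N, q * n = n * q := by
  have : Fact (Nat.Prime 2) := ⟨Nat.prime_two⟩
  have := hN.normal
  have h1 : IsPGroup 2 N := hQ.to_le h
  refine ⟨fun n hn => by simpa [pow_two] using (hN.elementary_of_isPGroup h1).2 n hn,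
    fun q hq n hn => ?_⟩
  exact hN.le_of_inf_ne_bot (inf_centralizer_ne_bot hQ h1 (by rw [normalizer_eq_top]; exact le_top)
    hN.ne_bot) hn q hq

theorem card_zpowers_two (h1 : x * x = 1) (h2 : x ≠ 1) : Nat.card (zpowers x) = 2 := by
  have : Fact (Nat.Prime 2) := ⟨Nat.prime_two⟩
  rw [Nat.card_zpowers, orderOf_eq_prime (by rwa [pow_two]) h2]

theorem zpowers_normal (h : ∀ g, g * x = x * g) : (zpowers x).Normal :=
  normal_of_le_center' (zpowers_le.2 (mem_center_iff.2 h))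

theorem card_two_of_central (hN : IsMinNormal N) (h1 : ∀ n ∈ N, n * n = 1)
    (h2 : ∀ g, ∀ n ∈ N, g * n = n * g) : Nat.card N = 2 := by
  obtain ⟨⟨n, hn⟩, h0⟩ := ne_bot_iff_exists_ne_one.1 hN.ne_bot
  have h3 : n ≠ 1 := fun e => h0 (Subtype.ext e)
  have := zpowers_normal fun g => h2 g n hn
  rw [← hN.eq_of_le (zpowers_ne_bot.2 h3) (zpowers_le.2 hn), card_zpowers_two (h1 n hn) h3]

theorem comm_bot (h : ∀ q ∈ Q, ∀ n ∈ N, q * n = n * q) :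
    ∀ q ∈ Q, ∀ n ∈ N, ⁅q, n⁆ ∈ (⊥ : Subgroup X) := fun q hq n hn =>
  commutatorElement_eq_one_iff_mul_comm.2 (h q hq n hn)

theorem central_of [N.Normal] (hs : ∀ H : Subgroup X, H.Normal → Q ≤ H → H = Q ∨ H = ⊤)
    (h1 : ∀ q ∈ Q, ∀ n ∈ N, q * n = n * q) (hf : f ∉ Q) (h2 : ¬ ∃ n ∈ N, ⁅f, n⁆ ∉ (⊥ : Subgroup X)) :
    ∀ g, ∀ n ∈ N, g * n = n * g := fun g n hn => by
  by_contra e
  exact h2 (faithful hs (comm_bot h1) ⟨n, hn, fun e' =>
    e (commutatorElement_eq_one_iff_mul_comm.1 e')⟩ hf)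

/-- The elements whose square lies in `L`. -/
def SqIn (Q L : Subgroup X) [hL : L.Normal] (h : ∀ x ∈ Q, ∀ y ∈ Q, ⁅x, y⁆ ∈ L) : Subgroup X where
  carrier := {x | x ∈ Q ∧ x * x ∈ L}
  one_mem' := ⟨Q.one_mem, by simp⟩
  mul_mem' := by
    rintro u v ⟨hu, hu'⟩ ⟨hv, hv'⟩
    refine ⟨mul_mem hu hv, ?_⟩
    have := mul_mem (mul_mem (hL.conj_mem _ (h v hv u hu) u) hu') hv'
    rwa [show u * ⁅v, u⁆ * u⁻¹ * (u * u) * (v * v) = u * v * (u * v) by
      simp only [commutatorElement_def]; group] at this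
  inv_mem' := by
    rintro u ⟨hu, hu'⟩
    exact ⟨inv_mem hu, by simpa using inv_mem hu'⟩

/-- The hypotheses: `X / Q` is simple and contains a dihedral group of order ten and an element
of order three. -/
structure H5 (Q : Subgroup X) (f a d : X) : Prop where
  two : IsPGroup 2 Q
  rk : SectionalPRankLE 2 4 X
  simple : ∀ H : Subgroup X, H.Normal → Q ≤ H → H = Q ∨ H = ⊤
  f5 : f ^ 5 ∈ Q
  aa : a * a ∈ Q
  af : a * f * a * f ∈ Q
  d3 : d ^ 3 ∈ Q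
  dQ : d ∉ Q
  nt : ∃ q ∈ Q, ⁅f, q⁆ ∉ Phi Q

namespace H5

variable [hQ : Q.Normal]

theorem quot (h : H5 Q f a d) [N.Normal] (hN : N ≤ Phi Q) :
    H5 (Q.map (QuotientGroup.mk' N)) (QuotientGroup.mk' N f) (QuotientGroup.mk' N a)
      (QuotientGroup.mk' N d) := by
  refine ⟨h.two.map _, secRank_quotient h.rk N, simple_quot h.simple, ⟨_, h.f5, map_pow _ _ _⟩,
    ⟨_, h.aa, map_mul _ _ _⟩, ⟨_, h.af, by simp⟩, ⟨_, h.d3, map_pow _ _ _⟩,
    fun e => h.dQ ((mk_mem_map (hN.trans Phi_le)).1 e), ?_⟩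
  obtain ⟨q, hq, e⟩ := h.nt
  refine ⟨_, ⟨q, hq, rfl⟩, ?_⟩
  rwa [← map_Phi, ← map_commutatorElement, mk_mem_map hN]

theorem fQ (h : H5 Q f a d) : f ∉ Q := fun e => by
  obtain ⟨q, hq, e'⟩ := h.nt
  exact e' (EA.phi.comm e hq)

theorem aQ (h : H5 Q f a d) : a ∉ Q := fun e => h.fQ (by
  have e1 := mul_mem (inv_mem (mul_mem e (hQ.conj_mem a e f))) h.af
  have := mul_mem (inv_mem h.f5) (pow_mem e1 3)
  rwa [show (f ^ 5)⁻¹ * ((a * (f * a * f⁻¹))⁻¹ * (a * f * a * f)) ^ 3 = f by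
    rw [show (a * (f * a * f⁻¹))⁻¹ * (a * f * a * f) = f * f by group, ← pow_two]; group] at this)

theorem mul (h : H5 Q f a d) (hx : x ∈ Q) : H5 Q f (x * a) d := by
  refine ⟨h.two, h.rk, h.simple, h.f5, ?_, ?_, h.d3, h.dQ, h.nt⟩
  · have := mul_mem (mul_mem hx (hQ.conj_mem x hx a)) h.aa
    rwa [show x * (a * x * a⁻¹) * (a * a) = x * a * (x * a) by group] at this
  · have := mul_mem (mul_mem hx (hQ.conj_mem x hx (a * f))) h.af
    rwa [show x * (a * f * x * (a * f)⁻¹) * (a * f * a * f) = x * a * f * (x * a) * f by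
      group] at this

variable [Finite X]

theorem top (h : H5 Q f a d) :
    Nat.card Q = 16 * Nat.card (Phi Q) ∧ ∀ b ∈ Q, ⁅f, b⁆ ∈ Phi Q → b ∈ Phi Q :=
  EA.phi.act5 h.rk (fun b hb => hQ.conj_mem b hb f) (fun _ hb => EA.phi.comm h.f5 hb) h.nt

theorem irr (h : H5 Q f a d) (h1 : Phi Q ≤ H) (h2 : H ≤ Q) (h3 : ∀ b ∈ H, f * b * f⁻¹ ∈ H) :
    H ≤ Phi Q ∨ Q ≤ H := by
  by_cases e : ∃ b ∈ H, ⁅f, b⁆ ∉ Phi Q
  · have := ((EA.phi.sub h1 h2).act5 h.rk h3 (fun _ hb => EA.phi.comm h.f5 (h2 hb)) e).1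
    exact Or.inr (eq_of_le_of_card_ge h2 (by rw [this, h.top.1])).ge
  · exact Or.inl fun b hb => h.top.2 b (h2 hb) (not_not.1 fun e' => e ⟨b, hb, e'⟩)

theorem not_ab (h : H5 Q f a d) [hL : L.Normal] (h1 : L ≤ Phi Q)
    (h2 : Nat.card (Phi Q) = 2 * Nat.card L) (h3 : ∀ q ∈ Q, ∀ n ∈ Phi Q, q * n = n * q)
    (h5 : ∀ x ∈ Q, ∀ y ∈ Q, ⁅x, y⁆ ∈ L) : False := by
  have hp : 0 < Nat.card L := Nat.card_pos
  have e1 : ∀ u ∈ Phi Q, ∀ v ∈ Phi Q, u ∉ L → v ∉ L → u * v ∈ L := fun u hu v hv =>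
    mul_mem_of_card_eq_two_mul h1 h2 hu hv
  rcases h.irr (H := SqIn Q L h5) (fun u hu => ⟨Phi_le hu, by
      by_cases e : u ∈ L
      exacts [mul_mem e e, e1 u hu u hu e e]⟩) (fun _ hu => hu.1)
    (fun b hb => ⟨hQ.conj_mem b hb.1 f, by
      simpa [mul_assoc] using hL.conj_mem _ hb.2 f⟩) with e | e
  · obtain ⟨x, hx, n, e2⟩ := aniso Phi_le h3 (fun _ => sq_mem_Phi) e1 (by rw [h.top.1]; omega)
    exact n (e ⟨hx, e2⟩)
  · have := card_le_of_le (Phi_le_iff.2 fun x hx => (e hx).2)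
    omega

theorem step1 (h : H5 Q f a d) (hN : IsMinNormal (Phi Q)) :
    Nat.card (Phi Q) = 2 ∧ ∃ x ∈ Q, ∃ y ∈ Q, ⁅x, y⁆ ≠ 1 := by
  obtain ⟨n1, n2⟩ := min_facts h.two hN Phi_le
  by_cases e : ∃ n ∈ Phi Q, ⁅f, n⁆ ∉ (⊥ : Subgroup X)
  · exfalso
    obtain ⟨c1, c2⟩ := (EA.bot n1).act5 h.rk (fun b hb => Phi_normal.conj_mem b hb f)
      (comm_bot n2 _ h.f5) e
    obtain ⟨b, hb, e1⟩ := EA.phi.adjust (fun b hb => hQ.conj_mem b hb a) h.aa h.top.1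
      (card_Cm_of_D10 (fun _ hq _ hb => EA.phi.comm hq hb) Phi_le h.af h.f5 h.top.1 h.top.2)
    have h' := h.mul hb
    have e2 := card_Cm_of_D10 (comm_bot n2) bot_le h'.af h.f5 c1 c2
    have e3 := EA.phi.card_le_sq (fun c hc => hQ.conj_mem c hc (b * a))
      fun _ hb => EA.phi.comm h'.aa hb
    have e4 := card_le_of_invol h.rk (le_Cm (K := Phi Q) (g := b * a) Phi_le) n1
      (fun u hu => n2 u hu.1) (fun u hu => sq_mem_Phi hu.1) (fun u hu => hu.2) e1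
      fun hu => h'.aQ hu.1
    rw [card_bot] at c1 e2
    rw [h.top.1, c1] at e3
    nlinarith
  · have c1 := card_two_of_central hN n1 (central_of h.simple n2 h.fQ e)
    refine ⟨c1, ?_⟩
    by_contra e1
    exact h.not_ab (L := ⊥) bot_le (by rw [c1, card_bot]) n2 fun x hx y hy =>
      not_not.1 fun e2 => e1 ⟨x, hx, y, hy, e2⟩

end H5

end Cfsg.Lib.GHB
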