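import Cfsg.Agent.GHB.Basic

/-! Involutions and elements of odd order acting on elementary abelian sections. -/

set_option autoImplicit false

namespace Cfsg.Lib.GHB

open Subgroup Cfsg.Lib.Solv Cfsg.Lib.Solv.PG
open scoped commutatorElement

variable {X : Type*} [Group X] {K B Q W D H L Z : Subgroup X} {g h a f x y : X}

theorem mem_Cm_bot : x ∈ Cm ⊥ B g ↔ x ∈ B ∧ g * x = x * g := by
  rw [mem_Cm, mem_bot, commutatorElement_eq_one_iff_mul_comm]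

theorem card_mul_le [Finite X] {C₁ C₂ : Subgroup X} (h1 : C₁ ≤ B) (h2 : C₂ ≤ B) :
    Nat.card C₁ * Nat.card C₂ ≤ Nat.card B * Nat.card ↥(C₁ ⊓ C₂) := by
  rw [← Solv.relIndex_mul_card_inf C₁ C₂, ← relIndex_mul_card_of_le h1, ← mul_assoc, mul_comm (Nat.card C₁)]
  exact Nat.mul_le_mul_right _ (Nat.mul_le_mul_right _
    (relIndex_le_of_le_right h2 index_ne_zero_of_finite))

theorem exists_not_mem [Finite X] (h : Nat.card H < Nat.card B) : ∃ x ∈ B, x ∉ H := by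
  by_contra e
  exact absurd (card_le_of_le fun x hx => not_not.1 fun e' => e ⟨x, hx, e'⟩) (not_le.2 h)

/-- A bound from an involution acting on a group of class two. -/
theorem card_le_of_invol (h4 : SectionalPRankLE 2 4 X) (hWD : W ≤ D) (h1 : ∀ w ∈ W, w * w = 1)
    (h2 : ∀ u ∈ D, ∀ w ∈ W, u * w = w * u) (h3 : ∀ u ∈ D, u * u ∈ W)
    (h5 : ∀ u ∈ D, ⁅a, u⁆ ∈ W) (h6 : a * a ∈ W) (h7 : a ∉ D) :
    Nat.card D ≤ 8 * Nat.card (Cm ⊥ W a) := by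
  refine EA.card_le1 h4 ⟨Cm_le.trans hWD, fun u hu => mem_Cm_bot.2 ⟨h3 u hu, ?_⟩,
    fun u hu k hk => ?_⟩ (fun u hu => mem_Cm_bot.2 ⟨h5 u hu, ?_⟩)
    (mem_Cm_bot.2 ⟨h6, (mul_assoc _ _ _).symm⟩) h7
  · have e1 := h2 u hu _ (h5 u hu)
    have e2 := h1 _ (h5 u hu)
    have e3 : a * u = ⁅a, u⁆ * u * a := by rw [commutatorElement_def]; group
    generalize ⁅a, u⁆ = n at e1 e2 e3
    calc a * (u * u) = n * (u * n) * u * a := by rw [← mul_assoc, e3, mul_assoc _ a, e3]; group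
      _ = u * u * a := by rw [e1, ← mul_assoc, e2, one_mul]
  · rwa [h2 u hu k hk.1, mul_inv_cancel_right]
  · have e1 := h2 u hu _ h6
    have e2 := h1 _ (h5 u hu)
    have e4 : a * ⁅a, u⁆ = ⁅a, u⁆⁻¹ * a := by
      rw [commutatorElement_def]
      calc a * (a * u * a⁻¹ * u⁻¹) = (a * a * u) * a⁻¹ * u⁻¹ := by simp only [mul_assoc]
        _ = _ := by rw [← e1]; group
    rw [e4, inv_eq_of_mul_eq_one_right e2]

/-- A quadratic form in at least three variables has a non-trivial zero. -/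
theorem aniso [Finite X] (hZB : Z ≤ B) (h1 : ∀ u ∈ B, ∀ w ∈ Z, u * w = w * u)
    (h2 : ∀ u ∈ B, u * u ∈ Z) (h3 : ∀ u ∈ Z, ∀ v ∈ Z, u ∉ L → v ∉ L → u * v ∈ L)
    (h5 : 8 * Nat.card Z ≤ Nat.card B) : ∃ x ∈ B, x ∉ Z ∧ x * x ∈ L := by
  by_contra hn
  have hn' : ∀ x ∈ B, x ∉ Z → x * x ∉ L := fun x hx h h' => hn ⟨x, hx, h, h'⟩
  have hE : EA Z B := ⟨hZB, h2, fun u hu w hw => by rwa [h1 u hu w hw, mul_inv_cancel_right]⟩
  have hp : 0 < Nat.card Z := Nat.card_pos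
  have key : ∀ x ∈ B, ∀ y ∈ B, x ∉ Z → y ∉ Z → x * y ∉ Z → ⁅x, y⁆ ∉ L := fun x hx y hy a b c e => by
    rw [comm_eq_sq, h1 _ (inv_mem hy) _ (inv_mem (h2 x hx)), mul_inv_cancel_right] at e
    have e1 := h3 _ (h2 _ (mul_mem hx hy)) _ (inv_mem (h2 x hx)) (hn' _ (mul_mem hx hy) c)
      (by rw [inv_mem_iff]; exact hn' x hx a)
    have e2 := mul_mem (inv_mem e) e1
    rw [mul_inv_rev, inv_inv, inv_mul_cancel_right] at e2
    exact hn' y hy b e2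
  obtain ⟨x, hx, nx⟩ := exists_not_mem (H := Z) (B := B) (by omega)
  have c1 : ∀ b ∈ Z, x * b * x⁻¹ ∈ Z := hE.nrm x hx
  have l1 : Z ⊔ zpowers x ≤ B := sup_le hZB (zpowers_le.2 hx)
  have k1 := card_adj c1 (h2 x hx) nx
  obtain ⟨y, hy, ny⟩ := exists_not_mem (H := Z ⊔ zpowers x) (B := B) (by omega)
  have c2 : ∀ b ∈ Z ⊔ zpowers x, y * b * y⁻¹ ∈ Z ⊔ zpowers x :=
    conj_of_comm le_sup_left fun b hb => hE.comm hy (l1 hb)
  have k2 := card_adj c2 (mem_sup_left (h2 y hy)) ny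
  obtain ⟨w, hw, nw⟩ := exists_not_mem (H := Z ⊔ zpowers x ⊔ zpowers y) (B := B) (by omega)
  have mx : x ∈ Z ⊔ zpowers x := mem_sup_right (mem_zpowers x)
  have my : y ∈ Z ⊔ zpowers x ⊔ zpowers y := mem_sup_right (mem_zpowers y)
  have a1 := key x hx y hy nx (fun e => ny (mem_sup_left e)) fun e =>
    ny (by simpa using mul_mem (inv_mem mx) (mem_sup_left e))
  have a2 := key x hx w hw nx (fun e => nw (mem_sup_left (mem_sup_left e))) fun e =>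
    nw (mem_sup_left (by simpa using mul_mem (inv_mem mx) (mem_sup_left e)))
  have a3 := key x hx _ (mul_mem hy hw) nx (fun e => nw (by
    simpa using mul_mem (inv_mem my) (mem_sup_left (mem_sup_left e)))) fun e => nw (by
      have := mul_mem (inv_mem my) (mul_mem (inv_mem (mem_sup_left mx))
        (mem_sup_left (mem_sup_left e)))
      simpa using this)
  refine a3 ?_
  have := h3 _ (hE.comm hx hy) _ (hE.comm hx hw) a1 a2
  rwa [← mul_inv_cancel_right ⁅x, w⁆ y, ← h1 y hy _ (hE.comm hx hw), show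
    ⁅x, y⁆ * (y * ⁅x, w⁆ * y⁻¹) = ⁅x, y * w⁆ by simp only [commutatorElement_def]; group] at this

variable [hK : K.Normal]

instance cmod_normal [hB : B.Normal] : (cmod K (B : Set X)).Normal := ⟨fun n hn g => by
  refine mem_cmod.2 fun b hb => ?_
  have := hK.conj_mem _ (mem_cmod.1 hn _ (hB.conj_mem b hb g⁻¹)) g
  rwa [show g * ⁅n, g⁻¹ * b * g⁻¹⁻¹⁆ * g⁻¹ = ⁅g * n * g⁻¹, b⁆ by
    simp only [commutatorElement_def]; group] at this⟩

theorem faithful [B.Normal] (hs : ∀ H : Subgroup X, H.Normal → Q ≤ H → H = Q ∨ H = ⊤)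
    (h1 : ∀ q ∈ Q, ∀ b ∈ B, ⁅q, b⁆ ∈ K) (h2 : ∃ b ∈ B, ⁅f, b⁆ ∉ K) (hg : g ∉ Q) :
    ∃ b ∈ B, ⁅g, b⁆ ∉ K := by
  by_contra hn
  have h3 : g ∈ cmod K (B : Set X) := mem_cmod.2 fun b hb => not_not.1 fun e => hn ⟨b, hb, e⟩
  rcases hs (cmod K (B : Set X)) inferInstance (fun q hq => mem_cmod.2 (h1 q hq)) with e | e
  · exact hg (e ▸ h3)
  · obtain ⟨b, hb, hb'⟩ := h2
    exact hb' (mem_cmod.1 (e.ge (mem_top f)) b hb)

theorem card_Cm_conj [hB : B.Normal] (g a : X) :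
    Nat.card (Cm K B (g * a * g⁻¹)) = Nat.card (Cm K B a) := by
  have key : ∀ g a x : X, x ∈ Cm K B a → g * x * g⁻¹ ∈ Cm K B (g * a * g⁻¹) := fun g a x hx =>
    ⟨hB.conj_mem x hx.1 g, by
      have := hK.conj_mem _ hx.2 g
      rwa [conjugate_commutatorElement] at this⟩
  refine Nat.card_congr ⟨fun x => ⟨g⁻¹ * x * g⁻¹⁻¹, ?_⟩, fun x => ⟨_, key g a x x.2⟩,
    fun x => Subtype.ext (by group), fun x => Subtype.ext (by group)⟩
  have := key g⁻¹ _ _ x.2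
  rwa [show g⁻¹ * (g * a * g⁻¹) * g⁻¹⁻¹ = a by group] at this

theorem Cm_congr (h1 : ∀ q ∈ Q, ∀ b ∈ B, ⁅q, b⁆ ∈ K) (h2 : g * a⁻¹ ∈ Q) : Cm K B g = Cm K B a := by
  ext x
  refine and_congr_right fun hx => ?_
  have := mem_cmod_singleton.2 (h1 _ h2 x hx)
  rw [← mem_cmod_singleton, ← mem_cmod_singleton]
  exact ⟨fun e => by simpa using mul_mem (inv_mem this) e, fun e => by simpa using mul_mem this e⟩

theorem EA.comm_mem_Cm (h : EA K B) (h1 : ∀ b ∈ B, a * b * a⁻¹ ∈ B)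
    (h2 : ∀ b ∈ B, ⁅a * a, b⁆ ∈ K) (hx : x ∈ B) : ⁅x, a⁆ ∈ Cm K B a := by
  rw [← inv_mem_iff, commutatorElement_inv]
  refine ⟨mul_mem (h1 x hx) (inv_mem hx), ?_⟩
  have := mul_mem (h2 x hx) (h.sq _ (mul_mem hx (inv_mem (h1 x hx))))
  rwa [show ⁅a * a, x⁆ * (x * (a * x * a⁻¹)⁻¹ * (x * (a * x * a⁻¹)⁻¹)) = ⁅a, ⁅a, x⁆⁆ by
    simp only [commutatorElement_def]; group] at this

variable [Finite X]

theorem EA.card_le_sq (h : EA K B) (h1 : ∀ b ∈ B, a * b * a⁻¹ ∈ B)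
    (h2 : ∀ b ∈ B, ⁅a * a, b⁆ ∈ K) :
    Nat.card B * Nat.card K ≤ Nat.card (Cm K B a) * Nat.card (Cm K B a) := by
  have := card_le_mul_card_centralizer (H := B.map (QuotientGroup.mk' K))
    (S := (Cm K B a).map (QuotientGroup.mk' K)) (v := QuotientGroup.mk' K a) (by
      rintro _ ⟨x, hx, rfl⟩
      exact ⟨_, h.comm_mem_Cm h1 h2 hx, map_commutatorElement _ _ _⟩)
  rw [← map_Cm, ← rel_eq_card, ← rel_eq_card] at this
  rw [← relIndex_mul_card_of_le h.le, ← relIndex_mul_card_of_le (le_Cm (g := a) h.le)]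
  calc _ ≤ K.relIndex (Cm K B a) * K.relIndex (Cm K B a) * Nat.card K * Nat.card K := by gcongr
    _ = _ := by ring

/-- An involution acting freely can be adjusted. -/
theorem EA.adjust (h : EA K B) (h1 : ∀ b ∈ B, a * b * a⁻¹ ∈ B) (h2 : a * a ∈ B)
    (h3 : Nat.card B = 16 * Nat.card K) (h5 : Nat.card (Cm K B a) ≤ 4 * Nat.card K) :
    ∃ b ∈ B, b * a * (b * a) ∈ K := by
  have hp : 0 < Nat.card K := Nat.card_pos
  obtain ⟨_, ⟨b, hb, rfl⟩, e⟩ := exists_commutator_eq (H := B.map (QuotientGroup.mk' K))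
    (S := (Cm K B a).map (QuotientGroup.mk' K)) (v := QuotientGroup.mk' K a) (by
      rintro _ ⟨x, hx, rfl⟩
      exact ⟨_, h.comm_mem_Cm h1 (fun b hb => h.comm h2 hb) hx, map_commutatorElement _ _ _⟩) (by
      rw [← map_Cm, ← rel_eq_card, ← rel_eq_card]
      rw [← relIndex_mul_card_of_le h.le] at h3
      rw [← relIndex_mul_card_of_le (le_Cm (g := a) h.le)] at h5
      rw [Nat.eq_of_mul_eq_mul_right hp h3]
      have := Nat.le_of_mul_le_mul_right h5 hp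
      nlinarith) (s := QuotientGroup.mk' K (a * a))
    ⟨_, ⟨h2, by
      rw [commutatorElement_eq_one_iff_mul_comm.2 (mul_assoc _ _ _).symm]; exact one_mem _⟩, rfl⟩
  refine ⟨b, hb, ?_⟩
  rw [← map_commutatorElement] at e
  have e1 := QuotientGroup.eq.1 e.symm
  have := mul_mem (hK.conj_mem _ (mul_mem e1 (h.sq _ (h1 b hb))) (a * a)) (h.sq _ h2)
  rwa [show a * a * ((a * a)⁻¹ * ⁅b, a⁆ * (a * b * a⁻¹ * (a * b * a⁻¹))) * (a * a)⁻¹ *
    (a * a * (a * a)) = b * a * (b * a) by simp only [commutatorElement_def]; group] at this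

/-- An involution inverting an element of order five. -/
theorem card_Cm_of_D10 [B.Normal] (h1 : ∀ q ∈ Q, ∀ b ∈ B, ⁅q, b⁆ ∈ K) (hKB : K ≤ B)
    (ha : a * f * a * f ∈ Q) (hf : f ^ 5 ∈ Q) (h3 : Nat.card B = 16 * Nat.card K)
    (h5 : ∀ b ∈ B, ⁅f, b⁆ ∈ K → b ∈ K) : Nat.card (Cm K B a) ≤ 4 * Nat.card K := by
  have e1 := card_mul_le (Cm_le (K := K) (B := B) (g := a)) (Cm_le (K := K) (g := f * a * f⁻¹))
  have e2 : Cm K B a ⊓ Cm K B (f * a * f⁻¹) ≤ K := fun x hx => h5 x hx.1.1 (by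
    have c1 := mem_cmod_singleton.2 hx.1.2
    have c2 := mem_cmod_singleton.2 hx.2.2
    have c3 := mem_cmod_singleton.2 (h1 _ ha x hx.1.1)
    have c4 := mem_cmod_singleton.2 (h1 _ hf x hx.1.1)
    have c5 := mul_mem (inv_mem (mul_mem c1 c2)) c3
    have := mul_mem (inv_mem c4) (pow_mem c5 3)
    rwa [show (f ^ 5)⁻¹ * ((a * (f * a * f⁻¹))⁻¹ * (a * f * a * f)) ^ 3 = f by
      rw [show (a * (f * a * f⁻¹))⁻¹ * (a * f * a * f) = f * f by group, ← pow_two]; group,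
      mem_cmod_singleton] at this)
  have e3 := card_le_of_le e2
  rw [card_Cm_conj, h3] at e1
  by_contra e
  nlinarith [Nat.mul_le_mul_left (16 * Nat.card K) e3]

/-- Three conjugates of `a` generate: `a` is not a transvection. -/
theorem EA.card_Cm_of_gen [B.Normal] (h4 : SectionalPRankLE 2 4 X) (hE : EA K B)
    (h1 : ∀ q ∈ Q, ∀ b ∈ B, ⁅q, b⁆ ∈ K)
    (h2 : ∀ H : Subgroup X, Q ≤ H → a ∈ H → g * a * g⁻¹ ∈ H → h * a * h⁻¹ ∈ H → H = ⊤)
    (h3 : Nat.card B = 16 * Nat.card K) (h5 : ∀ b ∈ B, (∀ g : X, ⁅g, b⁆ ∈ K) → b ∈ K) :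
    Nat.card (Cm K B a) ≤ 4 * Nat.card K := by
  have hp : 0 < Nat.card K := Nat.card_pos
  by_contra e
  obtain ⟨n, -, e1⟩ := (hE.sub (le_Cm (g := a) hE.le) Cm_le).rel_pow h4
  have e2 := relIndex_mul_card_of_le (le_Cm (g := a) hE.le)
  have e3 : 8 * Nat.card K ≤ Nat.card (Cm K B a) := by
    rw [← e2, e1] at e ⊢
    have : 2 < n := by
      by_contra e4
      exact e (Nat.mul_le_mul_right _ (Nat.pow_le_pow_right two_pos (not_lt.1 e4)))
    exact Nat.mul_le_mul_right _ (Nat.pow_le_pow_right two_pos this)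
  have e4 := card_mul_le (Cm_le (K := K) (B := B) (g := a)) (Cm_le (K := K) (g := g * a * g⁻¹))
  have e5 := card_mul_le (inf_le_left.trans (Cm_le (K := K) (B := B) (g := a)) :
    Cm K B a ⊓ Cm K B (g * a * g⁻¹) ≤ B) (Cm_le (K := K) (g := h * a * h⁻¹))
  rw [card_Cm_conj, h3] at e4 e5
  have e6 : 4 * Nat.card K ≤ Nat.card ↥(Cm K B a ⊓ Cm K B (g * a * g⁻¹)) := by nlinarith
  obtain ⟨u, hu, nu⟩ := exists_not_mem (H := K)
    (B := Cm K B a ⊓ Cm K B (g * a * g⁻¹) ⊓ Cm K B (h * a * h⁻¹)) (by nlinarith)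
  exact nu (h5 u hu.2.1 fun k => mem_cmod_singleton.1 ((h2 (cmod K {u})
    (fun q hq => mem_cmod_singleton.2 (h1 q hq u hu.2.1)) (mem_cmod_singleton.2 hu.1.1.2)
    (mem_cmod_singleton.2 hu.1.2.2) (mem_cmod_singleton.2 hu.2.2)).ge (mem_top k)))

/-- The cosets outside `K` containing an element with the property `P`. -/
def Sb (K B : Subgroup X) (P : X → Prop) : Set (X ⧸ K) :=
  {v | ∃ x ∈ B, x ∉ K ∧ P x ∧ (x : X ⧸ K) = v}

theorem dvd_card_Sb (p : ℕ) [Fact p.Prime] {P : X → Prop} (h1 : ∀ b ∈ B, g * b * g⁻¹ ∈ B)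
    (h2 : ∀ b ∈ B, ⁅g ^ p, b⁆ ∈ K) (h3 : ∀ b ∈ B, ⁅g, b⁆ ∈ K → b ∈ K)
    (h5 : ∀ b ∈ B, P b → P (g * b * g⁻¹)) : p ∣ Nat.card (Sb K B P) := by
  have := card_fix (fun v => QuotientGroup.mk' K g * v * (QuotientGroup.mk' K g)⁻¹) p
    (Sb K B P) (by
      rintro _ ⟨x, hx, n, hP, rfl⟩
      exact ⟨_, h1 x hx, fun e => n (by simpa [mul_assoc] using hK.conj_mem _ e g⁻¹),
        h5 x hx hP, by simp⟩) (by
      rintro _ ⟨x, hx, -, -, rfl⟩
      rw [conj_iterate, ← map_pow]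
      exact mk_conj_eq.2 (h2 x hx))
  have e : {x | x ∈ Sb K B P ∧ QuotientGroup.mk' K g * x * (QuotientGroup.mk' K g)⁻¹ = x} = ∅ := by
    refine Set.eq_empty_of_forall_notMem ?_
    rintro _ ⟨⟨x, hx, n, -, rfl⟩, e⟩
    exact n (h3 x hx (mk_conj_eq.1 e))
  rw [e] at this
  simpa using (Nat.modEq_zero_iff_dvd.1 (by simpa using this))

theorem all_or_none {P : X → Prop} {m : ℕ} (hKB : K ≤ B)
    (h1 : Nat.card B = (m + 1) * Nat.card K) (h2 : m ∣ Nat.card (Sb K B P)) :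
    (∀ x ∈ B, x ∉ K → ¬ P x) ∨ ∀ x ∈ B, x ∉ K → ∃ k ∈ K, P (x * k) := by
  let T : Set (X ⧸ K) := (B.map (QuotientGroup.mk' K) : Set (X ⧸ K)) \ {1}
  have e1 : Sb K B P ⊆ T := by
    rintro _ ⟨x, hx, n, -, rfl⟩
    exact ⟨⟨x, hx, rfl⟩, fun e => n ((QuotientGroup.eq_one_iff _).1 e)⟩
  have e2 : T.ncard = m := by
    rw [← relIndex_mul_card_of_le hKB, rel_eq_card] at h1
    rw [Set.ncard_diff_singleton_of_mem (one_mem _), ← Nat.card_coe_set_eq]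
    have := Nat.eq_of_mul_eq_mul_right Nat.card_pos h1
    exact Nat.sub_eq_of_eq_add this
  rw [Nat.card_coe_set_eq] at h2
  rcases Nat.eq_zero_or_pos (Sb K B P).ncard with e | e
  · left
    rw [Set.ncard_eq_zero] at e
    exact fun x hx n hP => (e ▸ (⟨x, hx, n, hP, rfl⟩ : (x : X ⧸ K) ∈ Sb K B P) :
      (x : X ⧸ K) ∈ (∅ : Set (X ⧸ K)))
  · right
    have e3 := Set.eq_of_subset_of_ncard_le e1 (e2 ▸ Nat.le_of_dvd e h2)
    intro x hx n
    obtain ⟨y, -, -, hP, e4⟩ : (x : X ⧸ K) ∈ Sb K B P :=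
      e3 ▸ ⟨⟨x, hx, rfl⟩, fun e => n ((QuotientGroup.eq_one_iff _).1 e)⟩
    exact ⟨_, QuotientGroup.eq.1 e4.symm, by simpa using hP⟩

end Cfsg.Lib.GHB
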