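import Cfsg.Agent.GHB.S6
import Cfsg.Agent.S2553
import Cfsg.Agent.Class.PSLSimple
import Mathlib.LinearAlgebra.Matrix.GeneralLinearGroup.Card

/-! Extensions of a 2-group by `GL₃(2)`: coordinates on natural sections. -/

set_option autoImplicit false

namespace Cfsg.Lib.GHB

open Subgroup Cfsg.Lib.Solv Cfsg.Lib.Solv.PG Matrix
open scoped commutatorElement

universe u

/-- Vectors. -/
abbrev V3 := Fin 3 → ZMod 2

/-- Matrices. -/
abbrev M3 := Matrix (Fin 3) (Fin 3) (ZMod 2)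

/-- A transvection. -/
def mE : M3 := !![1, 0, 1; 0, 1, 0; 0, 0, 1]

/-- A second transvection with the same centre. -/
def mF : M3 := !![1, 1, 0; 0, 1, 0; 0, 0, 1]

/-- An element of order three. -/
def mD : M3 := !![1, 0, 0; 0, 0, 1; 0, 1, 1]

/-- A permutation matrix. -/
def mP : M3 := !![0, 0, 1; 1, 0, 0; 0, 1, 0]

theorem simple_GL3 : IsSimpleGroup M3ˣ := by
  obtain ⟨e⟩ := Agent.S2553.nonempty_psl_equiv 2
  have := Class.PSL_isSimpleGroup (ι := Fin 3) (F := ZMod 2) (by simp)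
  exact e.symm.isSimpleGroup

theorem card_GL3 : Nat.card M3ˣ = 168 := by
  rw [show Nat.card M3ˣ = _ from Matrix.card_GL_field 3, ZMod.card]
  decide

variable {X : Type u} [Group X] {K B Q N H : Subgroup X} {g a b d e s x y z ζ ξ : X}
  {ψ : X →* M3} {π : X → V3}

/-- `X / Q` is identified with `GL₃(2)`. -/
structure Rep (Q : Subgroup X) (ψ : X →* M3) : Prop where
  ker : ∀ g, ψ g = 1 ↔ g ∈ Q
  onto : ∀ M N : M3, M * N = 1 → ∃ g, ψ g = M

theorem inv_of {M N : M3} (h : ψ g = M) (e : M * N = 1) : ψ g⁻¹ = N :=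
  left_inv_eq_right_inv (by rw [← h, ← map_mul, inv_mul_cancel, map_one]) e

namespace Rep

theorem surj (h : Rep Q ψ) : Function.Surjective ψ.toHomUnits := fun M =>
  (h.onto M.1 M.2 M.3).imp fun _ e => Units.ext e

theorem ker_eq (h : Rep Q ψ) : ψ.toHomUnits.ker = Q :=
  Subgroup.ext fun g => Units.ext_iff.trans (h.ker g)

theorem simple (h : Rep Q ψ) (H : Subgroup X) (hH : H.Normal) (hQ : Q ≤ H) : H = Q ∨ H = ⊤ := by
  have := simple_GL3
  exact h.ker_eq ▸ simple_ker _ h.surj H hH (h.ker_eq ▸ hQ)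

theorem index (h : Rep Q ψ) : Q.index = 168 := by
  rw [← h.ker_eq, index_ker, MonoidHom.range_eq_top.2 h.surj, card_top, card_GL3]

theorem quot (h : Rep Q ψ) [N.Normal] (hN : N ≤ Q) :
    ∃ φ, Rep (Q.map (QuotientGroup.mk' N)) φ := by
  refine ⟨QuotientGroup.lift N ψ fun x hx => (h.ker x).2 (hN hx), fun g => ?_, fun M M' e => ?_⟩
  · obtain ⟨g, rfl⟩ := QuotientGroup.mk'_surjective N g
    exact (h.ker g).trans (mk_mem_map hN).symm
  · obtain ⟨g, e⟩ := h.onto M M' e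
    exact ⟨g, e⟩

theorem gen3 (h : Rep Q ψ) (ha : ψ a = mE) : ∃ g g' : X, ∀ H : Subgroup X, Q ≤ H → a ∈ H →
    g * a * g⁻¹ ∈ H → g' * a * g'⁻¹ ∈ H → H = ⊤ := by
  obtain ⟨g, hg⟩ := h.onto mP (mP * mP) (by decide +kernel)
  have hg' := inv_of hg (show _ * (mP * mP) = 1 by decide +kernel)
  refine ⟨g, g⁻¹, fun H h0 h1 h2 h3 => ?_⟩
  have key : ∀ x ∈ H, orderOf (ψ x) ∣ Nat.card (H.map ψ.toHomUnits) := fun x hx => by
    have := orderOf_dvd_natCard (H.map ψ.toHomUnits) ⟨x, hx, rfl⟩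
    rwa [← orderOf_units] at this
  have : Fact (Nat.Prime 7) := ⟨by norm_num⟩
  have e1 := key _ (mul_mem (mul_mem h1 h2) h3)
  have e2 := key _ (mul_mem h1 h2)
  have e3 := key _ (mul_mem (mul_mem (mul_mem h1 h2) h1) h3)
  simp only [map_mul, inv_inv, ha, hg, hg'] at e1 e2 e3
  rw [orderOf_eq_prime (p := 7) (by decide +kernel) (by decide +kernel)] at e1
  rw [orderOf_eq_prime_pow (p := 2) (n := 1) (by decide +kernel) (by decide +kernel)] at e2
  rw [orderOf_eq_prime (p := 3) (by decide +kernel) (by decide +kernel)] at e3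
  have e4 := (H.map ψ.toHomUnits).card_mul_index
  rw [card_GL3] at e4
  obtain ⟨k, hk⟩ : 84 ∣ Nat.card (H.map ψ.toHomUnits) := by omega
  have e5 : H.map ψ.toHomUnits = ⊤ := by
    have := simple_GL3
    rw [hk, mul_assoc] at e4
    have e6 : (H.map ψ.toHomUnits).index ∣ 2 := Dvd.intro_left k (by omega)
    rcases (Nat.dvd_prime Nat.prime_two).1 e6 with e7 | e7
    · exact index_eq_one.1 e7
    · refine (normal_of_index_eq_two e7).eq_bot_or_eq_top.resolve_left fun e8 => ?_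
      rw [e8, index_bot, card_GL3] at e7
      omega
  rw [← comap_map_eq_self (f := ψ.toHomUnits) (h.ker_eq.le.trans h0), e5, comap_top]

end Rep

theorem lift_odd (hQ : IsPGroup 2 Q) {p m : ℕ} (h : 2 ^ (m + 1) ≡ 1 [MOD p]) (hx : x ^ p ∈ Q) :
    ∃ q ∈ Q, (x * q) ^ p = 1 := by
  obtain ⟨k, hk⟩ := hQ ⟨_, hx⟩
  have e1 : (2 ^ (m + 1)) ^ k ≡ 1 [MOD p] := by simpa using h.pow k
  obtain ⟨j, hj⟩ := (Nat.modEq_iff_dvd' (Nat.one_le_pow _ _ (by positivity))).1 e1.symm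
  refine ⟨(x ^ p) ^ j, pow_mem hx j, ?_⟩
  have e2 : (x ^ p) ^ 2 ^ k = 1 := congrArg Subtype.val hk
  rw [← pow_mul, ← pow_succ', ← hj, Nat.sub_add_cancel (Nat.one_le_pow _ _ (by positivity)),
    ← pow_mul, mul_comm _ p, pow_mul x, pow_succ', mul_pow, pow_mul, e2, one_pow]

/-- Coordinates on a natural section `B / K`. -/
structure Crd (Q K B : Subgroup X) (ψ : X →* M3) (π : X → V3) : Prop extends Rep Q ψ where
  le : K ≤ B
  nrm : ∀ g, ∀ b ∈ B, g * b * g⁻¹ ∈ B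
  add : ∀ a ∈ B, ∀ b ∈ B, π (a * b) = π a + π b
  sur : ∀ v, ∃ a ∈ B, π a = v
  zero : ∀ a ∈ B, π a = 0 ↔ a ∈ K
  conj : ∀ g, ∀ a ∈ B, π (g * a * g⁻¹) = ψ g *ᵥ π a

theorem exists_coord [Finite X] [K.Normal] [hB : B.Normal] (hE : EA K B)
    (h8 : Nat.card B = 8 * Nat.card K) : ∃ (φ : X →* M3) (π : X → V3),
      (∀ g, φ g = 1 ↔ ∀ b ∈ B, ⁅g, b⁆ ∈ K) ∧ (∀ a ∈ B, ∀ b ∈ B, π (a * b) = π a + π b) ∧
      (∀ v, ∃ a ∈ B, π a = v) ∧ (∀ a ∈ B, π a = 0 ↔ a ∈ K) ∧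
      ∀ g, ∀ a ∈ B, π (g * a * g⁻¹) = φ g *ᵥ π a := by
  have : Fact (Nat.Prime 2) := ⟨by norm_num⟩
  obtain ⟨S⟩ := nonempty_secRep 2 B K (commutator_le.2 fun _ ha _ hb => hE.comm ha hb)
    fun a ha => by simpa [pow_two] using hE.sq a ha
  have e1 : Nat.card S.V = 8 := by
    have e2 : S.hom.ker = K.subgroupOf B := Subgroup.ext fun x => S.π_eq_zero x.2
    have e3 := index_ker S.hom
    rw [MonoidHom.range_eq_top.2 fun w => (S.π_surj w.toAdd).elim fun a ha =>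
      ⟨⟨a, ha.1⟩, ha.2⟩, card_top, e2] at e3
    rw [← relIndex_mul_card_of_le hE.le] at h8
    exact e3.symm.trans (Nat.eq_of_mul_eq_mul_right Nat.card_pos h8)
  have e2 : Module.finrank (ZMod 2) S.V = 3 := by
    rw [Module.natCard_eq_pow_finrank (K := ZMod 2), Nat.card_zmod] at e1
    exact Nat.pow_right_injective le_rfl e1
  let β := Module.finBasisOfFinrankEq (ZMod 2) S.V e2
  refine ⟨(LinearMap.toMatrixAlgEquiv β).toMonoidHom.comp S.ρ, fun x => β.repr (S.π x),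
    fun g => (LinearMap.toMatrixAlgEquiv β).map_eq_one_iff.trans S.mem_ker_iff,
    fun a ha b hb => ?_, fun v => ?_, fun a ha => ?_, fun g a ha => ?_⟩
  · simp only [S.π_mul ha hb, map_add, Finsupp.coe_add]
  · obtain ⟨a, ha, e⟩ := S.π_surj (β.equivFun.symm v)
    exact ⟨a, ha, by simp only [e]; exact β.equivFun.apply_symm_apply v⟩
  · simp only [← S.π_eq_zero ha, Finsupp.coe_eq_zero, map_eq_zero_iff _ β.repr.injective]
  · simp only [← S.ρ_π g ha]
    exact (LinearMap.toMatrix_mulVec_repr β β _ _).symm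

theorem Rep.crd [Finite X] [K.Normal] [hB : B.Normal] (h : Rep Q ψ) (hE : EA K B)
    (h8 : Nat.card B = 8 * Nat.card K) (h1 : ∀ q ∈ Q, ∀ b ∈ B, ⁅q, b⁆ ∈ K)
    (h2 : ∃ b ∈ B, ⁅g, b⁆ ∉ K) : ∃ ψ π, Crd Q K B ψ π := by
  obtain ⟨φ, π, e0, a1, a2, a3, a4⟩ := exists_coord hE h8
  have e3 : φ.toHomUnits.ker = Q := by
    have e4 : ∀ g, g ∈ φ.toHomUnits.ker ↔ ∀ b ∈ B, ⁅g, b⁆ ∈ K := fun g =>
      Units.ext_iff.trans (e0 g)
    refine (h.simple _ inferInstance fun q hq => (e4 q).2 (h1 q hq)).resolve_right fun e => ?_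
    obtain ⟨b, hb, n⟩ := h2
    exact n ((e4 g).1 (e ▸ mem_top g) b hb)
  have e4 : φ.toHomUnits.range = ⊤ :=
    eq_top_of_card_eq _ (by rw [← index_ker, e3, h.index, card_GL3])
  refine ⟨φ, π, ⟨fun g => e3 ▸ ⟨fun e => Units.ext e, congrArg Units.val⟩, fun M N e => ?_⟩,
    hE.le, fun g b hb => hB.conj_mem b hb g, a1, a2, a3, a4⟩
  obtain ⟨g, e'⟩ := e4.ge (mem_top ⟨M, N, e, mul_eq_one_comm.1 e⟩)
  exact ⟨g, congrArg Units.val e'⟩

theorem nonempty_E8 [Finite X] (h1 : ∀ x : X, x * x = 1) (h8 : Nat.card X = 8) :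
    Nonempty (X ≃* (Fin 3 → Multiplicative (ZMod 2))) := by
  obtain ⟨-, π, -, a1, a2, a3, -⟩ := exists_coord (EA.bot (B := ⊤) fun x _ => h1 x)
    (by rw [card_top, card_bot, h8])
  refine ⟨MulEquiv.ofBijective (MonoidHom.mk' (fun x i => Multiplicative.ofAdd (π x i))
    fun x y => funext fun i => by rw [a1 x trivial y trivial]; rfl)
    ⟨(injective_iff_map_eq_one _).2 fun x e => (a3 x trivial).1 (funext fun i => congrFun e i),
      fun v => (a2 fun i => (v i).toAdd).imp fun x hx => funext fun i => congrFun hx.2 i⟩⟩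

end Cfsg.Lib.GHB
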