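import Cfsg.Agent.GHB.A5b
import Cfsg.Agent.Solv.FrattiniRep
import Cfsg.Agent.Solv.PConstrained

/-! Extensions of a 2-group by `A₅` of sectional 2-rank at most four: the extraspecial case. -/

set_option autoImplicit false

namespace Cfsg.Lib.GHB

open Subgroup Cfsg.Lib.Solv Cfsg.Lib.Solv.PG
open scoped commutatorElement

universe u

/-- Four pairwise anticommuting involutions. -/
structure ES {Y : Type*} [Group Y] (z p q r s : Y) : Prop where
  ne : z ≠ 1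
  zz : z * z = 1
  cen : ∀ c, (∀ g, g * c = c * g) ↔ c = 1 ∨ c = z
  pp : p * p = 1
  qq : q * q = 1
  rr : r * r = 1
  ss : s * s = 1
  pq : ⁅p, q⁆ = z
  pr : ⁅p, r⁆ = z
  ps : ⁅p, s⁆ = z
  qr : ⁅q, r⁆ = z
  qs : ⁅q, s⁆ = z
  rs : ⁅r, s⁆ = z
  gen : ∀ H : Subgroup Y, z ∈ H → p ∈ H → q ∈ H → r ∈ H → s ∈ H → H = ⊤

section
variable {Y Y' : Type*} [Group Y] [Group Y'] {z p q r s : Y}

theorem ES.map (h : ES z p q r s) (e : Y ≃* Y') : ES (e z) (e p) (e q) (e r) (e s) := by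
  have m : ∀ {a : Y}, a * a = 1 → e a * e a = 1 := fun ha => by rw [← map_mul, ha, map_one]
  have c : ∀ {a b : Y}, ⁅a, b⁆ = z → ⁅e a, e b⁆ = e z := fun ha => by
    rw [← map_commutatorElement, ha]
  refine ⟨fun k => h.ne (e.map_eq_one_iff.1 k), m h.zz, fun c => ?_, m h.pp, m h.qq, m h.rr, m h.ss,
    c h.pq, c h.pr, c h.ps, c h.qr, c h.qs, c h.rs, fun H a1 a2 a3 a4 a5 => ?_⟩
  · obtain ⟨c, rfl⟩ := e.surjective c
    rw [e.map_eq_one_iff, e.apply_eq_iff_eq, ← h.cen]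
    exact ⟨fun k g => e.injective (by simpa using k (e g)), fun k g => by
      obtain ⟨g, rfl⟩ := e.surjective g
      rw [← map_mul, k, map_mul]⟩
  · refine top_le_iff.1 fun g _ => ?_
    obtain ⟨g, rfl⟩ := e.surjective g
    exact (h.gen (H.comap e.toMonoidHom) a1 a2 a3 a4 a5).ge (mem_top g)

theorem anti (h1 : z * z = 1) (h2 : ∀ g, g * z = z * g) (h : ⁅p, q⁆ = z) :
    q * p = z * (p * q) ∧ ∀ t, q * (p * t) = z * (p * (q * t)) := by
  have : q * p = z * (p * q) := by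
    rw [show p * q = ⁅p, q⁆ * (q * p) by rw [commutatorElement_def]; group, h, ← mul_assoc, h1,
      one_mul]
  exact ⟨this, fun t => by rw [← mul_assoc, this, mul_assoc, mul_assoc]⟩

theorem ES.concl (h : ES z p q r s) : ∃ A B : Subgroup Y,
    Nonempty (A ≃* QuaternionGroup 2) ∧ Nonempty (B ≃* DihedralGroup 4) ∧
      (∀ a ∈ A, ∀ b ∈ B, a * b = b * a) ∧ A ⊔ B = ⊤ ∧ A ⊓ B = center Y := by
  have : Fact (Nat.Prime 2) := ⟨Nat.prime_two⟩
  have c := (h.cen z).2 (Or.inr rfl)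
  have c' : ∀ g t, g * (z * t) = z * (g * t) := fun g t => by rw [← mul_assoc, c, mul_assoc]
  have i : ∀ {a : Y}, a * a = 1 → a⁻¹ = a ∧ ∀ t, a * (a * t) = t := fun ha =>
    ⟨inv_eq_of_mul_eq_one_right ha, fun t => by rw [← mul_assoc, ha, one_mul]⟩
  obtain ⟨a1, b1⟩ := anti h.zz c h.pq
  obtain ⟨a2, b2⟩ := anti h.zz c h.pr
  obtain ⟨a3, b3⟩ := anti h.zz c h.ps
  obtain ⟨a4, b4⟩ := anti h.zz c h.qr
  obtain ⟨a5, b5⟩ := anti h.zz c h.qs
  obtain ⟨a6, b6⟩ := anti h.zz c h.rs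
  have e1 : p * q * r * (p * q * r) = z ∧ p * q * s * (p * q * s) = z ∧ p * q * (p * q) = z ∧
      p * q * s * (p * q * r) = z * (p * q * r * (p * q * s)) ∧ p * (p * q) = z * (p * q * p) ∧
      p * q * r * p = p * (p * q * r) ∧ p * q * r * (p * q) = p * q * (p * q * r) ∧
      p * q * s * p = p * (p * q * s) ∧ p * q * s * (p * q) = p * q * (p * q * s) := by
    simp only [mul_assoc, a1, a2, a3, a4, a5, a6, b1, b2, b3, b4, b5, b6, c' p, c' q, c' r, c' s,
      c p, c q, c r, c s, (i h.zz).2, (i h.pp).2, (i h.qq).2, (i h.rr).2, (i h.ss).2, h.zz, h.pp,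
      h.qq, h.rr, h.ss, mul_one, and_self]
  obtain ⟨k1, k2, k3, k4, k5, k6, k7, k8, k9⟩ := e1
  have ord : ∀ {a : Y}, a * a = z → orderOf a = 4 := fun {a} ha =>
    orderOf_eq_prime_pow (p := 2) (n := 1) (by rw [pow_one, pow_two, ha]; exact h.ne)
      (by rw [show 2 ^ (1 + 1) = 2 * 2 from rfl, pow_mul, pow_two a, ha, pow_two, h.zz])
  have nm : ∀ {a b : Y}, a * a = z → b * a = z * (a * b) → b * a * b⁻¹ = a⁻¹ ∧ b ∉ zpowers a :=
    fun {a b} ha hb => ⟨by
      rw [hb, ← mul_assoc, mul_inv_cancel_right, eq_inv_iff_mul_eq_one, mul_assoc, ha, h.zz], by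
      rintro ⟨n, rfl⟩
      rw [((Commute.refl a).zpow_left n).eq, right_eq_mul] at hb
      exact h.ne hb⟩
  have hc : ∀ a ∈ zpowers (p * q * r) ⊔ zpowers (p * q * s), ∀ b ∈ zpowers (p * q) ⊔ zpowers p,
      a * b = b * a := fun a ha b hb => by
    refine mem_centralizer_singleton_iff.1 ((sup_le (zpowers_le.2 ?_) (zpowers_le.2 ?_) :
      _ ≤ centralizer {b}) ha) <;>
    refine mem_centralizer_singleton_iff.2 (mem_centralizer_singleton_iff.1
      ((sup_le (zpowers_le.2 ?_) (zpowers_le.2 ?_) : _ ≤ centralizer {_}) hb)).symm <;>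
    rw [mem_centralizer_singleton_iff]
    exacts [k7.symm, k6.symm, k9.symm, k8.symm]
  have m1 : p * q * r ∈ zpowers (p * q * r) ⊔ zpowers (p * q * s) := mem_sup_left (mem_zpowers _)
  have m2 : p * q * s ∈ zpowers (p * q * r) ⊔ zpowers (p * q * s) := mem_sup_right (mem_zpowers _)
  have m3 : p * q ∈ zpowers (p * q) ⊔ zpowers p := mem_sup_left (mem_zpowers _)
  have m4 : p ∈ zpowers (p * q) ⊔ zpowers p := mem_sup_right (mem_zpowers _)
  have ht := h.gen (zpowers (p * q * r) ⊔ zpowers (p * q * s) ⊔ (zpowers (p * q) ⊔ zpowers p))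
    (mem_sup_right (k3 ▸ mul_mem m3 m3)) (mem_sup_right m4)
    (mem_sup_right (by simpa using mul_mem (inv_mem m4) m3))
    (by simpa only [inv_mul_cancel_left] using
      mul_mem (mem_sup_right (inv_mem m3)) (mem_sup_left m1))
    (by simpa only [inv_mul_cancel_left] using
      mul_mem (mem_sup_right (inv_mem m3)) (mem_sup_left m2))
  refine ⟨_, _, nonempty_sup_mulEquiv_quaternionGroup (ord k1) (by rw [k2, pow_two, k1])
    (nm k1 k4).1 (nm k1 k4).2, nonempty_sup_mulEquiv_dihedralGroup (ord k3) h.pp (nm k3 k5).1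
    (nm k3 k5).2, hc, ht, le_antisymm (fun x hx => mem_center_iff.2 fun g => ?_) fun x hx => ?_⟩
  · exact mem_centralizer_singleton_iff.1 ((ht.ge.trans (sup_le
      (fun a ha => mem_centralizer_singleton_iff.2 (hc a ha x hx.2))
      fun b hb => mem_centralizer_singleton_iff.2 (hc x hx.1 b hb).symm) :
        ⊤ ≤ centralizer {x}) (mem_top g))
  · rcases (h.cen x).1 (mem_center_iff.1 hx) with rfl | rfl
    · exact one_mem _
    · exact ⟨k1 ▸ mul_mem m1 m1, k3 ▸ mul_mem m3 m3⟩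

end

variable {X : Type u} [Group X] {Q : Subgroup X} {a d f : X}

theorem H5.exists_ES [hQ : Q.Normal] [Finite X] (h : H5 Q f a d) (h1 : Nat.card (Phi Q) = 2)
    (h2 : ∃ x ∈ Q, ∃ y ∈ Q, ⁅x, y⁆ ≠ 1) : ∃ z p q r s : Q, ES z p q r s := by
  have hE : EA (Phi Q) Q := EA.phi
  obtain ⟨z, hz, nz⟩ := exists_not_mem (H := ⊥) (B := Phi Q) (by rw [card_bot]; omega)
  have e1 : ∀ u ∈ Phi Q, ∀ v ∈ Phi Q, u ∉ (⊥ : Subgroup X) → v ∉ (⊥ : Subgroup X) →
      u * v ∈ (⊥ : Subgroup X) := fun u hu v hv =>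
    mul_mem_of_card_eq_two_mul bot_le (by rw [h1, card_bot]) hu hv
  have zz : z * z = 1 := e1 z hz z hz nz nz
  have e2 : ∀ u ∈ Phi Q, u = 1 ∨ u = z := fun u hu => or_iff_not_imp_left.2 fun e =>
    mul_right_cancel ((e1 u hu z hz e nz).trans zz.symm)
  have e3 : ∀ g, ∀ u ∈ Phi Q, g * u = u * g := fun g u hu => by
    rcases e2 u hu with rfl | rfl
    · simp
    · exact mul_inv_eq_iff_eq_mul.1 ((e2 _ (Phi_normal.conj_mem u hu g)).resolve_left
        fun e => nz (by simpa using e))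
  have e3' : ∀ g, ∀ u ∈ Phi Q, g * u * g⁻¹ = u := fun g u hu => by
    rw [e3 g u hu, mul_inv_cancel_right]
  obtain ⟨x, hx, nx, xx⟩ := aniso Phi_le (fun q _ => e3 q) (fun _ => sq_mem_Phi) e1
    (by rw [h.top.1]; omega)
  obtain ⟨y, hy⟩ : ∃ y : ℕ → X, ∀ n, y n = f ^ n * x * (f ^ n)⁻¹ := ⟨_, fun _ => rfl⟩
  have y0 : y 0 = x := by simp [hy]
  have ys : ∀ n, f * y n * f⁻¹ = y (n + 1) := fun n => by rw [hy, hy, pow_succ']; group
  have yQ : ∀ n, y n ∈ Q := fun n => hy n ▸ hQ.conj_mem x hx _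
  have yy : ∀ n, y n * y n = 1 := fun n => by rw [hy, conj_mul, mem_bot.1 xx]; simp
  have y5 : y 5 = ⁅f ^ 5, x⁆ * y 0 := by rw [hy, y0, commutatorElement_def]; group
  have k5 := hE.comm h.f5 hx
  generalize ⁅f ^ 5, x⁆ = k at y5 k5
  have bs : ∀ i j, ⁅y (i + 1), y (j + 1)⁆ = ⁅y i, y j⁆ := fun i j => by
    rw [← ys, ← ys, ← conjugate_commutatorElement, e3' f _ (hE.comm (yQ i) (yQ j))]
  have bsym : ∀ i j, ⁅y j, y i⁆ = ⁅y i, y j⁆ := fun i j => by
    rw [← commutatorElement_inv]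
    rcases e2 _ (hE.comm (yQ i) (yQ j)) with e | e <;> rw [e]
    exacts [inv_one, inv_eq_of_mul_eq_one_right zz]
  have b5 : ∀ i, ⁅y i, y 5⁆ = ⁅y 0, y i⁆ := fun i => by
    rw [y5, comm_mul_right, e3' _ _ (hE.comm (yQ i) (yQ 0)),
      commutatorElement_eq_one_iff_mul_comm.2 (e3 _ k k5), one_mul, bsym]
  have b03 : ⁅y 0, y 3⁆ = ⁅y 0, y 2⁆ := by rw [← bs, ← bs, b5]
  have b04 : ⁅y 0, y 4⁆ = ⁅y 0, y 1⁆ := by rw [← bs, b5]
  have ht : y 0 * (y 1 * y 2 * y 3 * y 4) ∈ Phi Q := by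
    have m := mul_mem (yQ 0) (mul_mem (mul_mem (mul_mem (yQ 1) (yQ 2)) (yQ 3)) (yQ 4))
    refine h.top.2 _ m ?_
    have e4 : f * (y 0 * (y 1 * y 2 * y 3 * y 4)) * f⁻¹ = y 1 * y 2 * y 3 * y 4 * y 5 :=
      calc _ = f * y 0 * f⁻¹ * (f * y 1 * f⁻¹) * (f * y 2 * f⁻¹) * (f * y 3 * f⁻¹) *
            (f * y 4 * f⁻¹) := by group
        _ = _ := by rw [ys, ys, ys, ys, ys]
    rw [commutatorElement_def, e4, y5]
    have := mul_mem (Phi_normal.conj_mem k k5 (y 1 * y 2 * y 3 * y 4))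
      (hE.comm (mul_mem (mul_mem (mul_mem (yQ 1) (yQ 2)) (yQ 3)) (yQ 4)) (yQ 0))
    convert this using 1
    rw [commutatorElement_def]; group
  have gen : ∀ H : Subgroup X, z ∈ H → y 0 ∈ H → y 1 ∈ H → y 2 ∈ H → y 3 ∈ H → Q ≤ H := by
    intro H a0 a1 a2 a3 a4
    have m : ∀ u ∈ ({z, y 0, y 1, y 2, y 3} : Set X), u ∈ closure ({z, y 0, y 1, y 2, y 3} : Set X) :=
      fun u hu => subset_closure hu
    have l : Phi Q ≤ closure ({z, y 0, y 1, y 2, y 3} : Set X) := fun u hu => by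
      rcases e2 u hu with rfl | rfl
      exacts [one_mem _, m _ (by simp)]
    have m4 : y 4 ∈ closure ({z, y 0, y 1, y 2, y 3} : Set X) := by
      have := mul_mem (inv_mem (mul_mem (mul_mem (mul_mem (m (y 0) (by simp)) (m (y 1) (by simp)))
        (m (y 2) (by simp))) (m (y 3) (by simp)))) (l ht)
      convert this using 1
      group
    rcases h.irr l ((closure_le _).2 (by
      rintro u (rfl | rfl | rfl | rfl | rfl)
      exacts [Phi_le hz, yQ _, yQ _, yQ _, yQ _])) (fun b hb => ((closure_le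
        ((closure ({z, y 0, y 1, y 2, y 3} : Set X)).comap (MulAut.conj f).toMonoidHom)).2 (by
      rintro u (rfl | rfl | rfl | rfl | rfl) <;> change f * _ * f⁻¹ ∈ Subgroup.closure _
      · rw [e3' f _ hz]
        exact l hz
      all_goals rw [ys]
      exacts [m _ (by simp), m _ (by simp), m _ (by simp), m4]) hb :)) with e | e
    · exact absurd (y0 ▸ e (m (y 0) (by simp))) nx
    · exact e.trans ((closure_le _).2 (by rintro u (rfl | rfl | rfl | rfl | rfl) <;> assumption))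
  have nab : ¬ ∀ q ∈ Q, ∀ q' ∈ Q, q * q' = q' * q := fun e => by
    obtain ⟨x, hx, y, hy, n⟩ := h2
    exact n (commutatorElement_eq_one_iff_mul_comm.2 (e x hx y hy))
  have ww : y 1 * y 2 * y 3 * y 4 * (y 1 * y 2 * y 3 * y 4) = 1 := by
    have e4 : y 0 * (y 1 * y 2 * y 3 * y 4) * (y 0 * (y 1 * y 2 * y 3 * y 4)) = 1 := by
      rcases e2 _ ht with e | e <;> rw [e]
      exacts [one_mul 1, zz]
    have e5 := e3 (y 0) _ ht
    generalize y 1 * y 2 * y 3 * y 4 = w at e4 e5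
    rw [← mul_assoc, yy, one_mul] at e5
    calc w * w = y 0 * w * y 0 * w := by rw [← e5]
      _ = 1 := by rw [← e4]; group
  have b12 := bs 0 1
  have b23 := (bs 1 2).trans b12
  have b34 := (bs 2 3).trans b23
  have b13 := bs 0 2
  have b24 := (bs 1 3).trans b13
  have b14 := (bs 0 3).trans b03
  have c := fun g => e3 g z hz
  have c' : ∀ g t, g * (z * t) = z * (g * t) := fun g t => by rw [← mul_assoc, c, mul_assoc]
  have i : ∀ {a : X}, a * a = 1 → ∀ t, a * (a * t) = t := fun ha t => by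
    rw [← mul_assoc, ha, one_mul]
  have c1 : ∀ g : X, g * 1 = 1 * g := by simp
  simp only [zero_add, Nat.reduceAdd] at b12 b23 b34 b13 b24 b14
  rcases e2 _ (hE.comm (yQ 0) (yQ 1)) with p1 | p1 <;>
    rcases e2 _ (hE.comm (yQ 0) (yQ 2)) with p2 | p2 <;>
    rw [p1] at b12 b23 b34 <;> rw [p2] at b13 b24 b14 b03
  · refine (nab fun q hq q' hq' => mem_centralizer_singleton_iff.1 (gen (centralizer {q'})
      (mem_centralizer_singleton_iff.2 (c q').symm) ?_ ?_ ?_ ?_ hq)).elim <;>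
    refine mem_centralizer_singleton_iff.2 (mem_centralizer_singleton_iff.1 (gen (centralizer {_})
      (mem_centralizer_singleton_iff.2 (c _).symm) ?_ ?_ ?_ ?_ hq')).symm <;>
    rw [mem_centralizer_singleton_iff, ← commutatorElement_eq_one_iff_mul_comm] <;>
    first | assumption | exact commutatorElement_self _ | (rw [bsym]; assumption)
  · refine (nz (mem_bot.2 ?_)).elim
    simpa only [mul_assoc, (anti (one_mul 1) c1 b12).2, (anti (one_mul 1) c1 b23).2,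
      (anti (one_mul 1) c1 b34).2, (anti zz c b13).2, (anti zz c b24).2, (anti zz c b14).2, one_mul,
      c' (y _), c (y _), i (yy _), i zz, yy, mul_one] using ww
  · refine (nz (mem_bot.2 ?_)).elim
    simpa only [mul_assoc, (anti (one_mul 1) c1 b13).2, (anti (one_mul 1) c1 b24).2,
      (anti (one_mul 1) c1 b14).2, (anti zz c b12).2, (anti zz c b23).2, (anti zz c b34).2, one_mul,
      c' (y _), c (y _), i (yy _), i zz, yy, mul_one] using ww
  refine ⟨⟨z, Phi_le hz⟩, ⟨_, yQ 0⟩, ⟨_, yQ 1⟩, ⟨_, yQ 2⟩, ⟨_, yQ 3⟩,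
    fun e => nz (congrArg Subtype.val e), Subtype.ext zz, fun u => ⟨fun e => ?_, ?_⟩,
    Subtype.ext (yy _), Subtype.ext (yy _), Subtype.ext (yy _), Subtype.ext (yy _), Subtype.ext p1,
    Subtype.ext p2, Subtype.ext b03, Subtype.ext b12, Subtype.ext b13, Subtype.ext b23,
    fun H a0 a1 a2 a3 a4 => top_le_iff.1 fun u _ => ?_⟩
  · rcases h.irr (H := Q ⊓ centralizer (Q : Set X))
      (le_inf Phi_le fun u hu q _ => e3 q u hu) inf_le_left
      (fun b hb => Normal.conj_mem inferInstance b hb f) with e' | e'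
    · exact (e2 u (e' ⟨u.2, fun q hq => congrArg Subtype.val (e ⟨q, hq⟩)⟩)).imp Subtype.ext
        Subtype.ext
    · exact (nab fun q hq q' hq' => (e' hq').2 q hq).elim
  · rintro (rfl | rfl) g
    exacts [by simp, Subtype.ext (c g)]
  · exact (mem_map_iff_mem Q.subtype_injective).1 (gen (H.map Q.subtype) ⟨_, a0, rfl⟩ ⟨_, a1, rfl⟩
      ⟨_, a2, rfl⟩ ⟨_, a3, rfl⟩ ⟨_, a4, rfl⟩ u.2)

theorem simple_ker {L : Type*} [Group L] [IsSimpleGroup L] (φ : X →* L)
    (hφ : Function.Surjective φ) (H : Subgroup X) (hH : H.Normal) (h : φ.ker ≤ H) :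
    H = φ.ker ∨ H = ⊤ := by
  have e := comap_map_eq_self h
  rcases (hH.map φ hφ).eq_bot_or_eq_top with e1 | e1 <;> rw [e1] at e
  exacts [Or.inl e.symm, Or.inr e.symm]

theorem exists_H5 (φ : X →* alternatingGroup (Fin 5)) (hφ : Function.Surjective φ)
    (h1 : IsPGroup 2 φ.ker) (h2 : SectionalPRankLE 2 4 X)
    (h3 : ∀ g ∉ φ.ker, ∃ q ∈ φ.ker, ⁅g, q⁆ ∉ Phi φ.ker) : ∃ f a d, H5 φ.ker f a d := by
  obtain ⟨f, hf⟩ := hφ ⟨Equiv.swap 0 4 * Equiv.swap 0 3 * Equiv.swap 0 2 * Equiv.swap 0 1,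
    Equiv.Perm.mem_alternatingGroup.2 (by decide)⟩
  obtain ⟨a, ha⟩ := hφ ⟨Equiv.swap 1 4 * Equiv.swap 2 3,
    Equiv.Perm.mem_alternatingGroup.2 (by decide)⟩
  obtain ⟨d, hd⟩ := hφ ⟨Equiv.swap 0 2 * Equiv.swap 0 1,
    Equiv.Perm.mem_alternatingGroup.2 (by decide)⟩
  refine ⟨f, a, d, h1, h2, simple_ker φ hφ, ?_, ?_, ?_, ?_, ?_, h3 f ?_⟩ <;>
    simp only [MonoidHom.mem_ker, map_mul, map_pow, hf, ha, hd] <;> decide

theorem isElementaryAbelian_of_sq {Y : Type*} [Group Y] {Q : Subgroup Y}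
    (h : ∀ x ∈ Q, x * x = 1) : IsElementaryAbelian 2 Q :=
  ⟨⟨⟨fun x y => Subtype.ext (commutatorElement_eq_one_iff_mul_comm.1 ((EA.bot h).comm x.2 y.2))⟩⟩,
    fun x hx => by rw [pow_two, h x hx]⟩

/-- The structure of `O₂(X)` when `X / O₂(X)` contains `A₅`. -/
theorem struct_A5 [Finite X] (hc : centralizer (pCore 2 X : Set X) ≤ pCore 2 X)
    (h4 : SectionalPRankLE 2 4 X) (A : Subgroup (X ⧸ pCore 2 X))
    (e : A ≃* alternatingGroup (Fin 5)) :
    ((∀ x ∈ pCore 2 X, x * x = 1) ∧ Nat.card (pCore 2 X) = 16) ∨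
      (Nat.card (pCore 2 X) = 32 ∧ ∃ z p q r s : pCore 2 X, ES z p q r s) := by
  have : Fact (Nat.Prime 2) := ⟨Nat.prime_two⟩
  let π := QuotientGroup.mk' (pCore 2 X)
  let φ : A.comap π →* alternatingGroup (Fin 5) := e.toMonoidHom.comp (π.subgroupComap A)
  have hφ : Function.Surjective φ := e.surjective.comp
    (π.subgroupComap_surjective_of_surjective A (QuotientGroup.mk'_surjective _))
  have hl : pCore 2 X ≤ A.comap π := fun x hx => by
    rw [mem_comap, show π x = 1 from (QuotientGroup.eq_one_iff x).2 hx]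
    exact one_mem _
  have hk : φ.ker = (pCore 2 X).subgroupOf (A.comap π) := by
    ext x
    rw [MonoidHom.mem_ker, mem_subgroupOf, ← QuotientGroup.eq_one_iff]
    exact e.map_eq_one_iff.trans Subtype.ext_iff
  have e1 : ↥φ.ker ≃* pCore 2 X := (MulEquiv.subgroupCongr hk).trans (subgroupOfEquivOfLe hl)
  have hm : (Phi φ.ker).map (A.comap π).subtype = Phi (pCore 2 X) := by
    rw [map_Phi, hk, map_subgroupOf_eq_of_le hl]
  obtain ⟨f, a, d, h⟩ := exists_H5 φ hφ ((pCore_isPGroup 2 X).of_equiv e1.symm)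
    (secRank_subgroup h4 _) fun g hg => by
      rw [hk, mem_subgroupOf, mem_pCore_iff_commutator_mem_frattini hc] at hg
      obtain ⟨q, hq⟩ := not_forall.1 hg
      obtain ⟨hq, n⟩ := Classical.not_imp.1 hq
      exact ⟨⟨q, hl hq⟩, hk ▸ hq, fun k =>
        n (Phi_le_frattini (pCore_isPGroup 2 X) (hm ▸ ⟨_, k, rfl⟩))⟩
  have c := h.top.1
  rw [Nat.card_congr e1.toEquiv] at c
  rcases H5.main _ _ f a d h with e2 | ⟨e2, e3⟩
  · rw [e2, card_bot] at c
    rw [e2, Subgroup.map_bot] at hm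
    exact Or.inl ⟨fun x hx => mem_bot.1 (hm ▸ sq_mem_Phi hx), c⟩
  · obtain ⟨z, p, q, r, s, k⟩ := h.exists_ES e2 e3
    exact Or.inr ⟨by rw [c, e2], _, _, _, _, _, k.map e1⟩

end Cfsg.Lib.GHB
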