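import Cfsg.Agent.GHB.L3d
import Cfsg.Agent.Fus.EssSmall

/-! Extensions of a 2-group by `GL₃(2)` of sectional 2-rank at most four: the result. -/

set_option autoImplicit false

namespace Cfsg.Lib.GHB

open Subgroup Cfsg.Lib.Solv Cfsg.Lib.Solv.PG
open scoped commutatorElement

universe u

variable {X : Type u} [Group X] [Finite X] {Q : Subgroup X} {φ : X →* M3}

theorem Rep.exists_H7 (h : Rep Q φ) (h1 : IsPGroup 2 Q) (h2 : SectionalPRankLE 2 4 X)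
    (h3 : ∀ g ∉ Q, ∃ q ∈ Q, ⁅g, q⁆ ∉ Phi Q) : ∃ s, H7 Q φ s := by
  obtain ⟨x, hx⟩ := h.onto (mE * mP) ((mE * mP) ^ 6) (by decide +kernel)
  obtain ⟨q, hq, e⟩ := lift_odd (x := x) (p := 7) (m := 2) h1 (by decide)
    ((h.ker _).1 (by rw [map_pow, hx]; decide +kernel))
  refine ⟨_, h1, h2, h, e, h3 _ ?_⟩
  rw [← h.ker, map_mul, (h.ker q).2 hq, hx]
  decide +kernel

theorem Rep.struct [hQ : Q.Normal] (h : Rep Q φ) (h1 : IsPGroup 2 Q) (h2 : SectionalPRankLE 2 4 X)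
    (h3 : ∀ g ∉ Q, ∃ q ∈ Q, ⁅g, q⁆ ∉ Phi Q) :
    (IsElementaryAbelian 2 Q ∧ (Nat.card Q = 8 ∨ Nat.card Q = 16)) ∨
      Nonempty (Q ≃* Multiplicative (ZMod 4) × (Fin 3 → Multiplicative (ZMod 2))) := by
  obtain ⟨s, h7⟩ := h.exists_H7 h1 h2 h3
  obtain ⟨R, c, hP⟩ := H7.main X Q φ s h7
  by_cases cc : c * c = 1
  · have e1 : ∀ x ∈ Q, x * x = 1 := fun x hx => (hP.sq_cases hx).elim id fun e => by
      rwa [cc, inv_one, mul_one] at e
    obtain ⟨q, hq, n⟩ := h7.nt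
    rcases (EA.bot e1).act7 h2 (fun b hb => hQ.conj_mem b hb s) h7.c7
      ⟨q, hq, fun k => n (bot_le (a := Phi Q) k)⟩ with ⟨e, -⟩ | ⟨e, -⟩ <;> rw [card_bot] at e
    exacts [Or.inl ⟨isElementaryAbelian_of_sq e1, Or.inl e⟩,
      Or.inl ⟨isElementaryAbelian_of_sq e1, Or.inr e⟩]
  obtain ⟨e1⟩ := Fus.Ess.nonempty_sup_equiv_prod (X := zpowers c) (Y := R)
    (fun x hx y hy => commutatorElement_eq_one_iff_commute.1
      (hP.ab x (zpowers_le.2 hP.cQ hx) y (hP.RQ hy)))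
    (eq_bot_iff.2 (by
      rintro _ ⟨⟨i, rfl⟩, hx⟩
      exact hP.fpf _ hx (commutatorElement_eq_one_iff_commute.2 (Commute.zpow_right hP.cs i))))
  obtain ⟨e2⟩ := Fus.Ess.nonempty_zpowers_equiv c (n := 4) (orderOf_eq_prime_pow (p := 2) (n := 1)
    (by rwa [pow_one, pow_two]) (by
      rw [← mem_bot.1 hP.c4, ← pow_two, ← pow_two, ← pow_mul]; rfl))
  obtain ⟨e3⟩ := nonempty_E8 (X := R) (fun x => Subtype.ext (hP.sq x x.2))
    (by rw [hP.card, card_bot])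
  refine Or.inr ⟨(MulEquiv.subgroupCongr (le_antisymm (fun q hq => ?_)
    (sup_le (zpowers_le.2 hP.cQ) hP.RQ))).trans (e1.trans (e2.prodCongr e3))⟩
  obtain ⟨r, hr, j, rfl⟩ := hP.gen q hq
  exact mul_mem (mem_sup_left (pow_mem (mem_zpowers c) j)) (mem_sup_right hr)

end Cfsg.Lib.GHB
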