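import Cfsg.Agent.S2553
import Cfsg.Agent.Solv.HaradaTools
import Cfsg.Agent.Solv.MinNormal

/-! Non-solvable subgroups of `A₈` without normal 2-subgroups. -/

set_option autoImplicit false

namespace Cfsg.Lib.GHB

open Subgroup Equiv Equiv.Perm Cfsg.Lib.Solv Cfsg.Lib.Perm.ThreeGen Cfsg.Agent.S2553
open scoped commutatorElement

universe u

theorem sixty_le (G : Type u) [Group G] [Finite G] : ¬ Group.IsSolvable G → 60 ≤ Nat.card G := by
  refine card_induction (P := fun G _ _ => ¬ Group.IsSolvable G → 60 ≤ Nat.card G)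
    (fun G _ _ ih h => ?_) G
  by_cases hs : ∀ N : Subgroup G, N.Normal → N = ⊥ ∨ N = ⊤
  · have : Nontrivial G := by
      by_contra e
      rw [not_nontrivial_iff_subsingleton] at e
      exact h inferInstance
    have : IsSimpleGroup G := ⟨hs⟩
    by_contra e
    rcases Agent.S0496.result (G := G) (fun _ => h (Coprime.isSolvable_of_isMulCommutative G))
      (by omega) with h | h | h | h | h | h <;> omega
  · obtain ⟨N, hN⟩ := not_forall.1 hs
    obtain ⟨_, hN⟩ := Classical.not_imp.1 hN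
    rw [not_or] at hN
    have c1 := card_lt_of_ne_top hN.2
    have c2 := card_quotient_lt hN.1
    by_cases e1 : Group.IsSolvable N
    · exact (ih (G ⧸ N) c2 fun _ => h (Group.isSolvable_of_ker_le_range N.subtype
        (QuotientGroup.mk' N) (by simp))).trans c2.le
    · exact (ih N c1 e1).trans c1.le

variable {H : Type u} [Group H] [Finite H] (φ : H →* A8) (hφ : Function.Injective φ)

include hφ

theorem threeCycle_of_mem (hns : ¬ Group.IsSolvable H) {P : Subgroup H} [hP : P.Normal]
    [Group.IsSolvable P] {x : H} (hx : x ∈ P) {p : ℕ} (hp : p.Prime) (h2 : p ≠ 2)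
    (ho : orderOf x = p) : IsThreeCycle (φ x : Perm (Fin 8)) := by
  have e1 := sixty_le (H ⧸ P) fun _ => hns (Group.isSolvable_of_ker_le_range P.subtype
    (QuotientGroup.mk' P) (by simp))
  have e2 := PG.card_le_mul_card_centralizer (H := ⊤) (S := P) (v := x)
    fun g _ => PG.commutator_mem_right hx g
  rw [card_top, inf_top_eq, card_eq_card_quotient_mul_card_subgroup P, mul_comm] at e2
  have e3 : Nat.card (centralizer ({x} : Set H)) ≤
      Nat.card (centralizer ({(φ x : Perm (Fin 8))} : Set (Perm (Fin 8)))) :=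
    Nat.card_le_card_of_injective (fun g => ⟨φ g, mem_centralizer_singleton_iff.2 (by
      rw [← Subgroup.coe_mul, ← map_mul, mem_centralizer_singleton_iff.1 g.2, map_mul]; rfl)⟩)
      fun g h e => Subtype.ext (hφ (Subtype.ext (Subtype.ext_iff.1 e :)))
  have e4 := e1.trans ((Nat.le_of_mul_le_mul_left e2 Nat.card_pos).trans e3)
  have h1 : orderOf (φ x : Perm (Fin 8)) = p := by rw [orderOf_coe, orderOf_injective φ hφ, ho]
  obtain ⟨n, hn⟩ := cycleType_prime_order (σ := (φ x : Perm (Fin 8))) (h1 ▸ hp)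
  have h3 := (φ x : Perm (Fin 8)).sum_cycleType_le
  rw [nat_card_centralizer] at e4
  rw [IsThreeCycle]
  rw [hn, h1] at h3 e4 ⊢
  rw [Multiset.sum_replicate, smul_eq_mul, Fintype.card_fin] at h3
  have h5 := hp.two_le
  have h6 : p ≤ 8 := by nlinarith
  have h7 : n ≤ 2 := by
    by_contra e
    have : 3 ≤ p := by omega
    nlinarith
  interval_cases p <;> interval_cases n <;>
    first | omega | rfl | exact absurd hp (by decide) | exact absurd e4 (by decide)

theorem of_pCore (hns : ¬ Group.IsSolvable H) {p : ℕ} [hp : Fact p.Prime] (h2 : p ≠ 2)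
    (h : pCore p H ≠ ⊥) : Nat.card (pCore 3 H) = 3 ∧
      (Nonempty (H ⧸ pCore 3 H ≃* alternatingGroup (Fin 5)) ∨
        Nonempty (H ⧸ pCore 3 H ≃* Perm (Fin 5))) := by
  have hP := pCore_isPGroup p H
  have := Coprime.isSolvable_of_isPGroup hP
  obtain ⟨x, hx, ho⟩ := PG.exists_orderOf_eq_prime hP h
  have h3 := threeCycle_of_mem φ hφ hns hx hp.out h2 ho
  obtain rfl : p = 3 := by rw [← ho, ← orderOf_injective φ hφ, ← orderOf_coe, h3.orderOf]
  let ψ : H →* Perm (Fin 8) := (Subgroup.subtype _).comp φ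
  have hψ : Function.Injective ψ := Subtype.val_injective.comp hφ
  have c3 : Nat.card (pCore 3 H) = 3 := by
    obtain ⟨k, hk⟩ := hP.exists_card_eq
    have e1 := (card_subgroup_dvd_card (pCore 3 H)).trans (card_dvd φ hφ)
    have e2 : k ≠ 0 := fun e => h (card_eq_one.1 (by rw [hk, e, pow_zero]))
    have e3 : k < 3 := by
      by_contra e
      exact absurd ((pow_dvd_pow 3 (not_lt.1 e)).trans (hk ▸ e1)) (by decide)
    have e4 : k ≠ 2 := by
      rintro rfl
      have hQ : Nat.card ((pCore 3 H).map ψ) = 3 ^ 2 := by rw [card_map_of_injective hψ, hk]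
      let S : Sylow 3 (Perm (Fin 8)) := (IsPGroup.of_card hQ).toSylow (by
        have := ((pCore 3 H).map ψ).card_mul_index
        rw [hQ, Nat.card_perm, Nat.card_eq_fintype_card, Fintype.card_fin] at this
        change _ = 40320 at this
        omega)
      obtain ⟨g, -, y, hy, e⟩ := exists_conj_mem S le_top
        (mem_top (swap 0 1 * swap 1 2 * (swap 3 4 * swap 4 5))) (k := 1)
        (orderOf_eq_prime (by decide) (by decide))
      have e5 := (threeCycle_of_mem φ hφ hns hy hp.out h2 (by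
        rw [← orderOf_injective ψ hψ, e, ← MulAut.conj_apply, MulEquiv.orderOf_eq]
        exact orderOf_eq_prime (by decide) (by decide))).card_support
      change (ψ y).support.card = 3 at e5
      rw [e, card_support_conj] at e5
      exact absurd e5 (by decide)
    rw [hk, show k = 1 by omega, pow_one]
  have hz : zpowers x = pCore 3 H :=
    eq_of_le_of_card_ge (zpowers_le.2 hx) (by rw [c3, Nat.card_zpowers, ho])
  have hpres : ∀ g ∈ ψ.range, ∀ y, g y ∈ (ψ x).support ↔ y ∈ (ψ x).support := by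
    rintro _ ⟨g, rfl⟩ y
    obtain ⟨n, hn⟩ := hz.ge (Normal.conj_mem inferInstance x hx g)
    have e1 : (ψ g * ψ x * (ψ g)⁻¹).support = (ψ x).support := Finset.eq_of_subset_of_card_le (by
      rw [← map_inv, ← map_mul, ← map_mul, ← hn, map_zpow]
      exact support_zpow_le _ n) card_support_conj.ge
    conv_lhs => rw [← e1, support_conj]
    exact Finset.mem_map' _
  have hpres' : ∀ g ∈ ψ.range, ∀ y, g y ∈ (ψ x).supportᶜ ↔ y ∈ (ψ x).supportᶜ := fun g hg y => by
    rw [Finset.mem_compl, Finset.mem_compl, hpres g hg]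
  have s3 : (ψ x).support.card = 3 := h3.card_support
  have s5 : (ψ x).supportᶜ.card = 5 := by rw [Finset.card_compl, s3]; rfl
  let ρ : H →* Perm ↥(ψ x).supportᶜ := (res ψ.range _ hpres').comp ψ.rangeRestrict
  have fx : ∀ g ∈ ρ.ker, ∀ y, ψ g y ≠ y → y ∈ (ψ x).support := fun g hg y hy => by
    by_contra e
    exact hy (congrArg (fun k : Perm ↥(ψ x).supportᶜ => (k ⟨y, Finset.mem_compl.2 e⟩ : Fin 8)) hg)
  have hk : pCore 3 H = ρ.ker := by
    refine eq_of_le_of_card_ge (hz.ge.trans (zpowers_le.2 (Equiv.ext fun y => Subtype.ext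
      (notMem_support.1 (Finset.mem_compl.1 y.2))))) ?_
    have : Nontrivial (ψ x).support := Fintype.one_lt_card_iff_nontrivial.1 (by rw [Fintype.card_coe, s3]; decide)
    have e1 := nat_card_alternatingGroup (α := (ψ x).support)
    rw [Nat.card_eq_fintype_card (α := (ψ x).support), Fintype.card_coe, s3] at e1
    rw [c3]
    refine le_of_le_of_eq (Nat.card_le_card_of_injective (fun g : ρ.ker =>
      (⟨(ψ g).subtypePerm (hpres _ ⟨g, rfl⟩), by
        rw [mem_alternatingGroup]
        convert (sign_subtypePerm _ (hpres _ ⟨g, rfl⟩) (fx g g.2)).trans (φ g).2⟩ :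
        alternatingGroup (ψ x).support)) fun g g' e => Subtype.ext (hψ (Equiv.ext fun y => ?_))) e1
    by_cases hy : y ∈ (ψ x).support
    · exact congrArg (fun k : alternatingGroup (ψ x).support => (k.1 ⟨y, hy⟩ : Fin 8)) e
    · rw [not_not.1 (mt (fx g g.2 y) hy), not_not.1 (mt (fx g' g'.2 y) hy)]
  have e := (QuotientGroup.quotientMulEquivOfEq hk).trans (QuotientGroup.quotientKerEquivRange ρ)
  have e1 := sixty_le (H ⧸ pCore 3 H) fun _ => hns (Group.isSolvable_of_ker_le_range
    (pCore 3 H).subtype (QuotientGroup.mk' (pCore 3 H)) (by rw [QuotientGroup.ker_mk', range_subtype]))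
  have e2 := ρ.range.card_mul_index
  rw [Nat.card_perm, Nat.card_eq_fintype_card (α := ↥(ψ x).supportᶜ), Fintype.card_coe, s5,
    ← Nat.card_congr e.toEquiv] at e2
  change _ = 120 at e2
  refine ⟨c3, ?_⟩
  have e3 : ρ.range.index = 2 ∨ ρ.range.index = 1 := by
    have : ρ.range.index ≠ 0 := index_ne_zero_of_finite
    have : ρ.range.index ≤ 2 := by nlinarith
    omega
  rcases e3 with e3 | e3
  · exact Or.inl (s5 ▸ ⟨e.trans ((MulEquiv.subgroupCongr
      (eq_alternatingGroup_of_index_eq_two e3)).trans (ψ x).supportᶜ.equivFin.altCongrHom)⟩)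
  · exact Or.inr (s5 ▸ ⟨e.trans (((MulEquiv.subgroupCongr (index_eq_one.1 e3)).trans
      topEquiv).trans (ψ x).supportᶜ.equivFin.permCongrHom)⟩)

theorem classify (hns : ¬ Group.IsSolvable H) (h2 : pCore 2 H = ⊥) :
    Nonempty (H ≃* Matrix.ProjectiveSpecialLinearGroup (Fin 3) (ZMod 2)) ∨
      (∃ n : ℕ, 5 ≤ n ∧ n ≤ 8 ∧ Nonempty (H ≃* alternatingGroup (Fin n))) ∨
      (Nonempty (H ≃* Perm (Fin 5)) ∨ Nonempty (H ≃* Perm (Fin 6))) ∨
      (Nat.card (pCore 3 H) = 3 ∧ (Nonempty (H ⧸ pCore 3 H ≃* alternatingGroup (Fin 5)) ∨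
        Nonempty (H ⧸ pCore 3 H ≃* Perm (Fin 5)))) := by
  have : Fact (Nat.Prime 2) := ⟨Nat.prime_two⟩
  have : Fact (Nat.Prime 7) := ⟨by norm_num⟩
  by_cases hF : fittingSubgroup H = ⊥
  swap
  · obtain ⟨p, hp⟩ := not_forall.1 (mt fitting_eq_bot_iff_forall_pCore.2 hF)
    obtain ⟨_, hp⟩ := not_forall.1 hp
    exact Or.inr (Or.inr (Or.inr (of_pCore φ hφ hns (by rintro rfl; exact hp h2) hp)))
  have : Nontrivial H := by
    by_contra e
    rw [not_nontrivial_iff_subsingleton] at e
    exact hns inferInstance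
  obtain ⟨h1, h3⟩ := isSimpleGroup_genFitting φ hφ hF
  have hc : centralizer (generalizedFittingSubgroup H : Set H) = ⊥ :=
    eq_bot_iff.mpr (hF ▸ Trans.centralizer_genFitting_le_fitting H)
  by_cases h9 : 9 ∣ Nat.card H
  · exact Or.inr ((of_nine φ hφ h9 h3 hc).imp_right Or.inl)
  rcases card_simple (φ.comp (generalizedFittingSubgroup H).subtype)
    (hφ.comp (subtype_injective _)) (Trans.IsQuasisimple.not_isMulCommutative h3)
    (fun h => h9 (h.trans (card_subgroup_dvd_card _))) with h | h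
  · exact Or.inr ((of_sixty h hc).imp (fun e => ⟨5, le_rfl, by norm_num, e⟩)
      fun e => Or.inl (Or.inl e))
  · obtain ⟨e3⟩ := Agent.S0495.result h (ZMod.card 7)
    obtain ⟨e4⟩ := Agent.S0255.result (ZMod.card 7) (ZMod.card 2)
    exact Or.inl ⟨(topEquiv.symm.trans
      (MulEquiv.subgroupCongr (eq_top_of_168 φ hφ h).symm)).trans (e3.trans e4)⟩

end Cfsg.Lib.GHB
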