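import Cfsg.Agent.GHB.A5c

/-! An extension of a faithful module of order 16 by `S₆` has sectional 2-rank at least five. -/

set_option autoImplicit false

namespace Cfsg.Lib.GHB

open Subgroup Cfsg.Lib.Solv Cfsg.Lib.Solv.PG
open scoped commutatorElement

universe u

variable {X : Type u} [Group X] {K B Q : Subgroup X} {g a b c t x y : X} [hK : K.Normal]

theorem EA.odd3 (h : EA K B) (h1 : ⁅y ^ 3, c⁆ ∈ K) (h2 : ⁅y, c⁆ ∈ Cm K B y) : ⁅y, c⁆ ∈ K := by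
  have e1 := mul_mem (mul_mem (mul_mem (hK.conj_mem _ h2.2 y) h2.2) (hK.conj_mem _ h2.2 ⁅y, c⁆))
    (h.sq _ h2.1)
  have := mul_mem (inv_mem e1) h1
  convert this using 1
  simp only [commutatorElement_def, pow_succ, pow_zero]; group

theorem conj_mem_Cm [hQ : Q.Normal] (h : EA K Q) (h1 : ⁅g, t⁆ ∈ Q) :
    ∀ b ∈ Cm K Q t, g * b * g⁻¹ ∈ Cm K Q t := fun b hb => by
  rw [← Cm_congr (g := g * t * g⁻¹) (fun _ hq _ hb => h.comm hq hb) h1]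
  exact ⟨hQ.conj_mem b hb.1 g, conjugate_commutatorElement _ _ g ▸ hK.conj_mem _ hb.2 g⟩

theorem comm_conj [hQ : Q.Normal] (h : EA K Q) (h1 : ⁅g, t⁆ ∈ Q) (hb : b ∈ Q)
    (h2 : ⁅g, b⁆ ∈ Cm K Q t) : ⁅g, ⁅t, b⁆⁆ ∈ K := by
  have e1 := h.comm h1 (hQ.conj_mem _ (hQ.conj_mem b hb g) t)
  have e2 := h.comm h2.1 (mul_mem (hQ.conj_mem b hb t) (inv_mem hb))
  have := mul_mem (mul_mem e1 h2.2) e2
  convert this using 1
  simp only [commutatorElement_def]; group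

theorem comm_conj' [hQ : Q.Normal] (h : EA K Q) (h1 : ⁅g, t⁆ ∈ Q) (hb : b ∈ Q)
    (h2 : ⁅g, ⁅t, b⁆⁆ ∈ K) : ⁅g, b⁆ ∈ Cm K Q t := by
  have h3 := mul_mem (hQ.conj_mem b hb g) (inv_mem hb)
  have e1 := h.comm h1 (hQ.conj_mem _ (hQ.conj_mem b hb g) t)
  have e2 := h.comm h3 (mul_mem (hQ.conj_mem b hb t) (inv_mem hb))
  refine ⟨h3, ?_⟩
  have := mul_mem (mul_mem (inv_mem e1) h2) (inv_mem e2)
  convert this using 1
  simp only [commutatorElement_def]; group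

theorem comm_fixed (h : EA K Q) (ha : a * a ∈ K) (hc : ⁅a, b⁆ ∈ Q) : ⁅a, b⁆ ∈ Cm K Q a := by
  refine ⟨hc, ?_⟩
  have := mul_mem (mul_mem ha (hK.conj_mem _ (inv_mem ha) b)) (inv_mem (h.sq _ hc))
  convert this using 1
  simp only [commutatorElement_def]; group

variable [Finite X] [hQ : Q.Normal]

theorem tv (h : EA K Q) (h0 : Nat.card Q = 2 * Nat.card (Cm K Q t)) (h1 : ⁅g, t⁆ ∈ Q) (hb : b ∈ Q) :
    ⁅g, ⁅t, b⁆⁆ ∈ K := by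
  refine comm_conj h h1 hb ?_
  by_cases e : b ∈ Cm K Q t
  · exact mul_mem (conj_mem_Cm h h1 b e) (inv_mem e)
  · refine mul_mem_of_card_eq_two_mul Cm_le h0 (hQ.conj_mem b hb g) (inv_mem hb) (fun k => e ?_)
      (by rwa [inv_mem_iff])
    have := conj_mem_Cm (g := g⁻¹) h (by
      have := hQ.conj_mem _ (inv_mem h1) g⁻¹
      convert this using 1
      simp only [commutatorElement_def]; group) _ k
    simpa [mul_assoc] using this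

theorem transvection (h4 : SectionalPRankLE 2 4 X) (h : EA K Q)
    (hf : ∀ g ∉ Q, ∃ b ∈ Q, ⁅g, b⁆ ∉ K) (h16 : Nat.card Q = 16 * Nat.card K) (tt : t * t ∈ Q)
    (tQ : t ∉ Q) (y3 : y ^ 3 ∈ Q) (yQ : y ∉ Q) (yt : ⁅y, t⁆ ∈ Q) (hy : ∃ b ∈ Q, b ∉ K ∧ ⁅y, b⁆ ∈ K) :
    Nat.card (Cm K Q t) = 8 * Nat.card K ∧ ∃ b ∈ Q, b * t * (b * t) ∈ K := by
  have hp : 0 < Nat.card K := Nat.card_pos
  have ty : ⁅t, y⁆ ∈ Q := by rw [← commutatorElement_inv]; exact inv_mem yt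
  have cy : ∀ b ∈ Q, y * b * y⁻¹ ∈ Q := fun b hb => hQ.conj_mem b hb y
  have ct : ∀ b ∈ Q, t * b * t⁻¹ ∈ Q := fun b hb => hQ.conj_mem b hb t
  have hA : Nat.card (Cm K Q y) = 4 * Nat.card K := by
    rcases h.act3 h4 cy (fun _ hb => h.comm y3 hb) (hf y yQ) with e | ⟨-, e⟩
    · omega
    · obtain ⟨b, hb, n, e'⟩ := hy
      exact (n (e b hb e')).elim
  have hC := h.sub (le_Cm (g := t) h.le) Cm_le
  have m : ∀ b ∈ Q, ⁅t, b⁆ ∈ Cm K Q t := fun b hb => by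
    rw [← inv_mem_iff, commutatorElement_inv]
    exact h.comm_mem_Cm ct (fun _ hb => h.comm tt hb) hb
  have a3 := hC.act3 h4 (conj_mem_Cm h yt) fun _ hb => h.comm y3 hb.1
  have h8 : Nat.card (Cm K Q t) = 8 * Nat.card K := by
    obtain ⟨n, hn, e1⟩ := hC.rel_pow h4
    have e2 := relIndex_mul_card_of_le hC.le
    have e3 := h.card_le_sq ct fun _ hb => h.comm tt hb
    obtain ⟨v, hv, nv⟩ := hf t tQ
    have e4 := card_lt_of_lt (lt_of_le_of_ne (Cm_le (K := K) (B := Q) (g := t)) fun e =>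
      nv (e.ge hv).2)
    rw [e1] at e2
    rw [← e2] at e3 e4 a3 ⊢
    have e5 : n ≠ 2 := by
      rintro rfl
      have e6 := (h.sub (le_Cm (g := y) h.le) Cm_le).card_le_sq (conj_mem_Cm h ty)
        fun _ hb => h.comm tt hb.1
      obtain ⟨u, hu, nu⟩ := exists_not_mem (H := K) (B := Cm K (Cm K Q y) t) (by nlinarith)
      have e7 : ¬ ∃ b ∈ Cm K Q t, ⁅y, b⁆ ∉ K := fun e => by
        rcases a3 e with e8 | ⟨e8, -⟩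
        · exact nu (fpf_of_card (g := y) hC.le (by omega) u ⟨hu.1.1, hu.2⟩ hu.1.2)
        · omega
      have e8 : ∀ b ∈ Cm K Q t, ⁅y, b⁆ ∈ K := fun b hb => not_not.1 fun e => e7 ⟨b, hb, e⟩
      obtain ⟨b, hb, nb⟩ := hf y yQ
      have e9 := comm_conj' h yt hb (e8 _ (m b hb))
      exact nb (h.odd3 (h.comm y3 hb) ⟨e9.1, e8 _ e9⟩)
    interval_cases n <;> first | rfl | omega | nlinarith
  refine ⟨h8, ?_⟩
  have hE : Nat.card (Cm K (Cm K Q t) y) = 2 * Nat.card K := by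
    rcases a3 (by
      by_contra e
      have := card_le_of_le (show Cm K Q t ≤ Cm K Q y from fun b hb =>
        ⟨hb.1, not_not.1 fun e' => e ⟨b, hb, e'⟩⟩)
      omega) with e | ⟨e, -⟩ <;> omega
  have m2 : ∀ b ∈ Q, ⁅t, b⁆ ∈ Cm K (Cm K Q t) y := fun b hb => ⟨m b hb, tv h (by omega) yt hb⟩
  have m3 : t * t ∈ Cm K (Cm K Q t) y := by
    refine ⟨⟨tt, by
      rw [commutatorElement_eq_one_iff_mul_comm.2 (mul_assoc _ _ _).symm]; exact one_mem _⟩,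
      h.odd3 (h.comm y3 tt) ?_⟩
    have e1 := m2 _ yt
    have := mul_mem (le_Cm h.le (hK.conj_mem _ (h.comm yt (m _ yt).1) 1))
      (mul_mem (show ⁅t, ⁅y, t⁆⁆ ∈ Cm K Q y from ⟨e1.1.1, e1.2⟩) (le_Cm h.le (h.sq _ yt)))
    convert this using 1
    simp only [commutatorElement_def]; group
  by_cases e : t * t ∈ K
  · exact ⟨1, one_mem _, by simpa using e⟩
  obtain ⟨v, hv, nv⟩ := hf t tQ
  have e1 := mul_mem_of_card_eq_two_mul (le_Cm hC.le) hE (m2 v hv) m3 nv e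
  refine ⟨v, hv, ?_⟩
  have := mul_mem (mul_mem (h.comm hv (m v hv).1) (hK.conj_mem _ (h.sq v hv) ⁅t, v⁆)) e1
  convert this using 1
  simp only [commutatorElement_def]; group

theorem pair (h4 : SectionalPRankLE 2 4 X) (h : EA K Q) (hf : ∀ g ∉ Q, ∃ b ∈ Q, ⁅g, b⁆ ∉ K)
    (h16 : Nat.card Q = 16 * Nat.card K) (ha : Nat.card (Cm K Q a) = 8 * Nat.card K)
    (hb : Nat.card (Cm K Q b) = 8 * Nat.card K) (h1 : ⁅x, a⁆ ∈ Q) (h2 : ⁅y, b⁆ ∈ Q)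
    (h3 : (x * y) ^ 5 ∈ Q) (h5 : x * y ∉ Q) :
    Nat.card ↥(Cm K Q a ⊓ Cm K Q b) ≤ 4 * Nat.card K ∧
      ∀ u ∈ Q, ∀ v ∈ Q, ⁅a, u⁆ ∉ K → ⁅a, u⁆⁻¹ * ⁅b, v⁆ ∉ K := by
  have hp : 0 < Nat.card K := Nat.card_pos
  have fp := (h.act5 h4 (fun b hb => hQ.conj_mem b hb _) (fun _ hb => h.comm h3 hb) (hf _ h5)).2
  refine ⟨?_, fun u hu v hv n e => n (fp _ (mul_mem (hQ.conj_mem u hu a) (inv_mem hu)) ?_)⟩
  · by_contra e
    obtain ⟨k, hk⟩ := card_dvd_of_le (inf_le_left : Cm K Q a ⊓ Cm K Q b ≤ _)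
    have e1 : k = 1 := by
      rcases k with _ | _ | k
      exacts [by omega, rfl, by nlinarith]
    rw [e1, mul_one] at hk
    have e2 := eq_of_le_of_card_ge (inf_le_left : Cm K Q a ⊓ Cm K Q b ≤ _) hk.le
    have e3 := eq_of_le_of_card_ge (inf_le_right : Cm K Q a ⊓ Cm K Q b ≤ _) (by omega)
    have e4 := (h.sub (le_Cm (g := a) h.le) Cm_le).act5 (g := x * y) h4 (fun u hu => by
      have := conj_mem_Cm h h1 _ (e2.le (e3.ge (conj_mem_Cm h h2 u (e3.le (e2.ge hu)))))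
      simpa [mul_assoc] using this) (fun _ hb => h.comm h3 hb.1) (by
        obtain ⟨u, hu, n⟩ := exists_not_mem (H := K) (B := Cm K Q a) (by omega)
        exact ⟨u, hu, fun e => n (fp u hu.1 e)⟩)
    omega
  · refine mem_cmod_singleton.1 (mul_mem (mem_cmod_singleton.2 (tv h (by omega) h1 hu))
      (mem_cmod_singleton.2 ?_))
    have e1 : ⁅b, v⁆ ∈ Cm K Q y := ⟨mul_mem (hQ.conj_mem v hv b) (inv_mem hv), tv h (by omega) h2 hv⟩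
    have := mul_mem e1 (inv_mem (le_Cm h.le e))
    rw [mul_inv_rev, inv_inv, mul_inv_cancel_left] at this
    exact this.2

/-- Relations for a pair of commuting transpositions. -/
def Pr {L : Type*} [Group L] (a b x y : L) : Prop :=
  ⁅a, b⁆ = 1 ∧ ⁅x, a⁆ = 1 ∧ ⁅y, b⁆ = 1 ∧ (x * y) ^ 5 = 1 ∧ x * y ≠ 1

/-- Relations for three commuting transpositions. -/
def Tr {L : Type*} [Group L] (y : L) : Prop := ∃ t g h p₁ q₁ p₂ q₂ p₃ q₃ : L,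
  t * t = 1 ∧ ⁅y, t⁆ = 1 ∧ Pr t (g * t * g⁻¹) p₁ q₁ ∧ Pr t (h * t * h⁻¹) p₂ q₂ ∧
    Pr (g * t * g⁻¹) (h * t * h⁻¹) p₃ q₃ ∧ t ≠ 1 ∧ t⁻¹ * (g * t * g⁻¹) ≠ 1 ∧
    t⁻¹ * (h * t * h⁻¹) ≠ 1 ∧ (g * t * g⁻¹)⁻¹ * (h * t * h⁻¹) ≠ 1 ∧
    t⁻¹ * ((g * t * g⁻¹)⁻¹ * (h * t * h⁻¹)) ≠ 1

theorem not_Tr {L : Type*} [Group L] (φ : X →* L) (hφ : Function.Surjective φ) (hk : φ.ker = Q)
    (h4 : SectionalPRankLE 2 4 X) (h : EA K Q) (hf : ∀ g ∉ Q, ∃ b ∈ Q, ⁅g, b⁆ ∉ K)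
    (y3 : y ^ 3 ∈ Q) (yQ : y ∉ Q) (hy : ∃ b ∈ Q, b ∉ K ∧ ⁅y, b⁆ ∈ K) : ¬ Tr (φ y) := by
  have hp : 0 < Nat.card K := Nat.card_pos
  simp only [Tr, Pr, hφ.exists, ← map_mul, ← map_inv, ← map_commutatorElement, ← map_pow, ne_eq,
    ← MonoidHom.mem_ker, hk]
  rintro ⟨t₀, g, k, p₁, q₁, p₂, q₂, p₃, q₃, r⟩
  have h16 := (h.act5 h4 (fun b hb => hQ.conj_mem b hb _) (fun _ hb => h.comm r.2.2.1.2.2.2.1 hb)
    (hf _ r.2.2.1.2.2.2.2)).1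
  obtain ⟨-, b, hb, tt⟩ := transvection h4 h hf h16 r.1 r.2.2.2.2.2.1 y3 yQ r.2.1 hy
  have e0 : φ t₀ = φ (b * t₀) := by rw [map_mul, (hk.ge hb : φ b = 1), one_mul]
  simp only [← hk, MonoidHom.mem_ker, map_mul, map_inv, map_commutatorElement, map_pow] at r
  rw [e0] at r
  generalize b * t₀ = t at tt r
  simp only [← map_mul, ← map_inv, ← map_commutatorElement, ← map_pow, ← MonoidHom.mem_ker,
    hk] at r
  obtain ⟨r1, r2, ⟨a1, a2, a3, a4, a5⟩, ⟨b1, b2, b3, b4, b5⟩, ⟨c1, c2, c3, c4, c5⟩, n1, n2, n3, n4,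
    n5⟩ := r
  have k1 := (transvection h4 h hf h16 r1 n1 y3 yQ r2 hy).1
  have k2 := (card_Cm_conj g t).trans k1
  have k3 := (card_Cm_conj k t).trans k1
  have sq : ∀ g : X, g * t * g⁻¹ * (g * t * g⁻¹) ∈ K := fun g => by
    simpa [mul_assoc] using hK.conj_mem _ tt g
  have nq : ∀ g : X, g * t * g⁻¹ ∉ Q := fun g e => n1 (by
    simpa [mul_assoc] using hQ.conj_mem _ e g⁻¹)
  have s2 := sq g
  have s3 := sq k
  have m2 := nq g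
  have m3 := nq k
  generalize g * t * g⁻¹ = u at *
  generalize k * t * k⁻¹ = v at *
  obtain ⟨d1, d2⟩ := pair h4 h hf h16 k1 k2 a2 a3 a4 a5
  have d3 := (pair h4 h hf h16 k1 k3 b2 b3 b4 b5).1
  have d4 := (pair h4 h hf h16 k2 k3 c2 c3 c4 c5).1
  have sym : ∀ {a b : X}, ⁅a, b⁆ ∈ Q → ⁅b, a⁆ ∈ Q := fun e => by
    rw [← commutatorElement_inv]; exact inv_mem e
  have mem : ∀ {a b : X}, Nat.card (Cm K Q a) = 8 * Nat.card K → ⁅b, a⁆ ∈ Q → ∀ w ∈ Q,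
      ⁅a, w⁆ ∈ Cm K Q b := fun ha e w hw =>
    ⟨mul_mem (hQ.conj_mem w hw _) (inv_mem hw), tv h (by omega) e hw⟩
  have self : ∀ a : X, ⁅a, a⁆ ∈ Q := fun a => by simp
  obtain ⟨w₁, hw₁, nw₁⟩ := hf t n1
  obtain ⟨w₂, hw₂, nw₂⟩ := hf u m2
  have q1 := (mem k1 (self t) w₁ hw₁).1
  have q2 := (mem k2 (self u) w₂ hw₂).1
  have j1 : ∀ b ∈ K, ⁅t, w₁⁆ * b * ⁅t, w₁⁆⁻¹ ∈ K := fun b hb => hK.conj_mem b hb _
  have z1 := card_adj j1 (h.sq _ q1) nw₁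
  have l1 : K ⊔ zpowers ⁅t, w₁⁆ ≤ Q := sup_le h.le (zpowers_le.2 q1)
  have z2 := card_adj (B := K ⊔ zpowers ⁅t, w₁⁆) (conj_of_comm le_sup_left fun b hb =>
    h.comm q2 (l1 hb)) (mem_sup_left (h.sq _ q2)) (by
      rw [mem_adj j1 (h.sq _ q1)]
      exact fun e => e.elim nw₂ (d2 w₁ hw₁ w₂ hw₂ nw₁))
  have l : ∀ {a : X}, ⁅a, t⁆ ∈ Q → ⁅a, u⁆ ∈ Q →
      K ⊔ zpowers ⁅t, w₁⁆ ⊔ zpowers ⁅u, w₂⁆ ≤ Cm K Q a := fun e1 e2 =>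
    sup_le (sup_le (le_Cm h.le) (zpowers_le.2 (mem k1 e1 w₁ hw₁))) (zpowers_le.2 (mem k2 e2 w₂ hw₂))
  have l2 := l (self t) a1
  have l3 := l (sym a1) (self u)
  have l4 := l (sym b1) (sym c1)
  have KU : K ≤ K ⊔ zpowers ⁅t, w₁⁆ ⊔ zpowers ⁅u, w₂⁆ := le_sup_left.trans le_sup_left
  generalize K ⊔ zpowers ⁅t, w₁⁆ ⊔ zpowers ⁅u, w₂⁆ = U at z2 l2 l3 l4 KU
  have u1 := (eq_of_le_of_card_ge (le_inf l2 l3) (by omega)).ge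
  have u2 := (eq_of_le_of_card_ge (le_inf l2 l4) (by omega)).ge
  have u3 := (eq_of_le_of_card_ge (le_inf l3 l4) (by omega)).ge
  have hU : EA U Q := ⟨l2.trans Cm_le, fun x hx => KU (h.sq x hx), fun x hx =>
    conj_of_comm KU fun b hb => h.comm hx (l2 hb).1⟩
  have v1 : ∀ b ∈ Q, ⁅t, b⁆ ∈ U := fun b hb => u1 ⟨mem k1 (self t) b hb, mem k1 (sym a1) b hb⟩
  have cf : ∀ {a b : X}, a * a ∈ K → b * b ∈ K → ⁅a, b⁆ ∈ Q → ⁅b, a⁆ ∈ Cm K Q a ⊓ Cm K Q b :=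
    fun ha hb e => mem_inf.2 ⟨by rw [← commutatorElement_inv]; exact inv_mem (comm_fixed h ha e),
      comm_fixed h hb (sym e)⟩
  have ad := fun x => mem_adj (x := x) (conj_of_comm hU.le v1) r1
  have := (hU.adj v1 (KU tt)).card_le2 h4
    (hU.comm_adj v1 (KU tt) (fun b hb => u1 ⟨mem k2 a1 b hb, mem k2 (self u) b hb⟩) (u1 (cf tt s2 a1)))
    (KU s2)
    (hU.comm_adj v1 (KU tt) (fun b hb => u1 ⟨mem k3 b1 b hb, mem k3 c1 b hb⟩) (u2 (cf tt s3 b1)))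
    (KU s3) (u3 (cf s2 s3 c1)) (by rw [ad]; tauto) (by rw [ad]; tauto) (by rw [ad]; tauto)
  rw [card_adj (conj_of_comm hU.le v1) r1 n1] at this
  omega

omit [Finite X] in
theorem not_all_fpf (h : EA K Q) (h0 : ¬ Q ≤ K) (x3 : x ^ 3 ∈ Q) (y3 : y ^ 3 ∈ Q) (xy : ⁅x, y⁆ ∈ Q)
    (h1 : ∀ g ∈ [x, y, x * y, x * y⁻¹], ∀ b ∈ Q, ⁅g, b⁆ ∈ K → b ∈ K) : False := by
  obtain ⟨S⟩ := nonempty_secRep 2 Q K (commutator_le.2 fun _ ha _ hb => h.comm ha hb)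
    fun a ha => by simpa [pow_two] using h.sq a ha
  have fp : ∀ g ∈ [x, y, x * y, x * y⁻¹], ∀ v, S.ρ g v = v → v = 0 := fun g hg v e => by
    obtain ⟨a, ha, rfl⟩ := S.π_surj v
    rw [S.π_eq_zero ha]
    refine h1 g hg a ha ((S.π_eq_zero (SecRep.commutator_mem g ha)).1 ?_)
    rw [← S.sub_one_π g ha, LinearMap.sub_apply, e]
    exact sub_self _
  have one : ∀ g ∈ Q, S.ρ g = 1 := fun g hg => S.le_ker hg
  have c : S.ρ x * S.ρ y = S.ρ y * S.ρ x := by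
    rw [← map_mul, ← map_mul, show x * y = ⁅x, y⁆ * (y * x) by rw [commutatorElement_def]; group,
      map_mul, one _ xy, one_mul]
  have e1 : S.ρ x ^ 3 = 1 := by rw [← map_pow, one _ x3]
  have e2 : S.ρ y ^ 3 = 1 := by rw [← map_pow, one _ y3]
  have nm : ∀ a : Module.End (ZMod 2) S.V, a ^ 3 = 1 → (∀ v, a v = v → v = 0) →
      a * a + a + 1 = 0 := fun a ha hb => LinearMap.ext fun v => hb _ (by
    rw [← Module.End.mul_apply, show a * (a * a + a + 1) = a ^ 3 + a * a + a by noncomm_ring, ha,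
      show 1 + a * a + a = a * a + a + 1 by abel])
  have k1 := nm _ e1 (fp x (by simp))
  have k2 := nm _ e2 (fp y (by simp))
  have k3 := nm (S.ρ x * S.ρ y) (by rw [Commute.mul_pow c, e1, e2, one_mul])
    (map_mul S.ρ x y ▸ fp (x * y) (by simp))
  have two : ∀ a : Module.End (ZMod 2) S.V, a + a = 0 := fun a => by
    rw [← two_smul (ZMod 2), show (2 : ZMod 2) = 0 from rfl, zero_smul]
  have k4 : S.ρ x = S.ρ y := by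
    generalize S.ρ x = a at *
    generalize S.ρ y = b at *
    have e3 : a * b * (a * b) = (a * a) * (b * b) := by
      rw [mul_assoc, ← mul_assoc b, ← c]; simp only [mul_assoc]
    have e4 : a * a = a + 1 := by
      rw [← add_zero (a * a), ← two (a + 1), ← add_assoc, ← add_assoc (a * a), k1, zero_add]
    have e5 : b * b = b + 1 := by
      rw [← add_zero (b * b), ← two (b + 1), ← add_assoc, ← add_assoc (b * b), k2, zero_add]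
    rw [e3, e4, e5, show (a + 1) * (b + 1) + a * b + 1 = (a * b + a * b) + (1 + 1) + (a + b) by
      noncomm_ring, two, two, zero_add, zero_add] at k3
    rw [← add_zero a, ← two b, ← add_assoc, k3, zero_add]
  have := S.nontrivial_iff.2 h0
  obtain ⟨v, hv⟩ := exists_ne (0 : S.V)
  exact hv (fp (x * y⁻¹) (by simp) v (by rw [map_mul, k4, ← map_mul, mul_inv_cancel, map_one]; rfl))

/-- Relations holding in `S₆`. -/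
def D6 (L : Type*) [Group L] : Prop := ∃ x y c : L, y ^ 3 = 1 ∧ ⁅x, y⁆ = 1 ∧ c * x * c⁻¹ = y ∧
  c * (x * y⁻¹) * c⁻¹ = x * y ∧ (y ≠ 1 ∧ x * y ≠ 1 ∧ x ^ 3 = 1 ∧ (x * y) ^ 3 = 1) ∧ Tr y ∧ Tr (x * y)

theorem not_D6 {L : Type*} [Group L] (φ : X →* L) (hφ : Function.Surjective φ) (hk : φ.ker = Q)
    (h4 : SectionalPRankLE 2 4 X) (h : EA K Q) (hf : ∀ g ∉ Q, ∃ b ∈ Q, ⁅g, b⁆ ∉ K) : ¬ D6 L := by
  simp only [D6, hφ.exists]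
  rintro ⟨x, y, c, y3, xy, c1, c2, ⟨n1, n2, x3, z3⟩, t1, t2⟩
  simp only [← map_mul, ← map_inv, ← map_commutatorElement, ← map_pow, ne_eq,
    ← MonoidHom.mem_ker, hk, ← MonoidHom.div_mem_ker_iff, div_eq_mul_inv] at y3 xy c1 c2 n1 n2 x3 z3
  have k1 := fun e => not_Tr φ hφ hk h4 h hf y3 n1 e t1
  have k2 := fun e => not_Tr φ hφ hk h4 h hf z3 n2 e (map_mul φ x y ▸ t2)
  have tr : ∀ {g g' : X}, c * g * c⁻¹ * g'⁻¹ ∈ Q → ¬ (∃ b ∈ Q, b ∉ K ∧ ⁅g', b⁆ ∈ K) →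
      ∀ b ∈ Q, ⁅g, b⁆ ∈ K → b ∈ K := fun {g g'} e n b hb e' => by
    by_contra nb
    refine n ⟨_, hQ.conj_mem b hb c, fun k => nb (by simpa [mul_assoc] using hK.conj_mem _ k c⁻¹), ?_⟩
    exact ((Cm_congr (fun _ hq _ hb => h.comm hq hb) e).le ⟨hQ.conj_mem b hb c,
      conjugate_commutatorElement _ _ c ▸ hK.conj_mem _ e' c⟩).2
  obtain ⟨b, hb, nb⟩ := hf y n1
  refine not_all_fpf h (fun e => nb (commutator_mem_right (e hb) y)) x3 y3 xy ?_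
  simp only [List.forall_mem_cons, List.not_mem_nil, false_imp_iff, implies_true, and_true]
  exact ⟨tr c1 k1, fun b hb e => not_not.1 fun n => k1 ⟨b, hb, n, e⟩,
    fun b hb e => not_not.1 fun n => k2 ⟨b, hb, n, e⟩, tr c2 k2⟩

/-- An explicit permutation. -/
def pm {n : ℕ} (a b : Fin n → Fin n) (h : (∀ i, b (a i) = i) ∧ ∀ i, a (b i) = i := by decide) :
    Equiv.Perm (Fin n) := ⟨a, b, h.1, h.2⟩

/-- An explicit even permutation. -/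
def am {n : ℕ} (a b : Fin n → Fin n) (h : (∀ i, b (a i) = i) ∧ ∀ i, a (b i) = i := by decide)
    (h' : Equiv.Perm.sign (pm a b h) = 1 := by decide +kernel) : alternatingGroup (Fin n) :=
  ⟨pm a b h, h'⟩

theorem D6_S6 : D6 (Equiv.Perm (Fin 6)) :=
  ⟨pm ![1, 2, 0, 3, 4, 5] ![2, 0, 1, 3, 4, 5],
    pm ![0, 1, 2, 4, 5, 3] ![0, 1, 2, 5, 3, 4],
    pm ![3, 4, 5, 0, 2, 1] ![3, 5, 4, 0, 1, 2],
    by decide +kernel, by decide +kernel, by decide +kernel, by decide +kernel, by decide +kernel,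
    ⟨pm ![1, 0, 2, 3, 4, 5] ![1, 0, 2, 3, 4, 5],
    pm ![3, 4, 0, 1, 2, 5] ![2, 3, 4, 0, 1, 5],
    pm ![2, 5, 0, 1, 3, 4] ![2, 3, 0, 4, 5, 1],
    pm ![0, 1, 2, 4, 5, 3] ![0, 1, 2, 5, 3, 4],
    pm ![0, 2, 5, 3, 4, 1] ![0, 5, 1, 3, 4, 2],
    pm ![0, 1, 2, 4, 5, 3] ![0, 1, 2, 5, 3, 4],
    pm ![0, 3, 5, 1, 4, 2] ![0, 3, 5, 1, 4, 2],
    pm ![0, 2, 1, 4, 3, 5] ![0, 2, 1, 4, 3, 5],
    pm ![0, 3, 5, 1, 4, 2] ![0, 3, 5, 1, 4, 2],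
    by unfold Pr; refine ⟨?_, ?_, ?_, ?_, ?_, ?_⟩ <;> decide +kernel⟩,
    ⟨pm ![3, 4, 5, 0, 1, 2] ![3, 4, 5, 0, 1, 2],
    pm ![0, 2, 4, 1, 5, 3] ![0, 3, 1, 5, 2, 4],
    pm ![0, 1, 5, 4, 3, 2] ![0, 1, 5, 4, 3, 2],
    pm ![0, 2, 1, 3, 5, 4] ![0, 2, 1, 3, 5, 4],
    pm ![0, 1, 4, 5, 2, 3] ![0, 1, 4, 5, 2, 3],
    pm ![0, 2, 1, 3, 5, 4] ![0, 2, 1, 3, 5, 4],
    pm ![0, 3, 5, 1, 4, 2] ![0, 3, 5, 1, 4, 2],
    pm ![0, 1, 3, 2, 5, 4] ![0, 1, 3, 2, 5, 4],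
    pm ![0, 2, 1, 5, 4, 3] ![0, 2, 1, 5, 4, 3],
    by unfold Pr; refine ⟨?_, ?_, ?_, ?_, ?_, ?_⟩ <;> decide +kernel⟩⟩

theorem D6_A8 : D6 (alternatingGroup (Fin 8)) :=
  ⟨am ![1, 2, 0, 3, 4, 5, 6, 7] ![2, 0, 1, 3, 4, 5, 6, 7],
    am ![0, 1, 2, 4, 5, 3, 6, 7] ![0, 1, 2, 5, 3, 4, 6, 7],
    am ![3, 4, 5, 0, 2, 1, 6, 7] ![3, 5, 4, 0, 1, 2, 6, 7],
    by decide +kernel, by decide +kernel, by decide +kernel, by decide +kernel, by decide +kernel,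
    ⟨am ![1, 0, 2, 3, 4, 5, 7, 6] ![1, 0, 2, 3, 4, 5, 7, 6],
    am ![3, 4, 0, 1, 2, 5, 6, 7] ![2, 3, 4, 0, 1, 5, 6, 7],
    am ![2, 5, 0, 1, 3, 4, 6, 7] ![2, 3, 0, 4, 5, 1, 6, 7],
    am ![0, 1, 2, 4, 5, 3, 6, 7] ![0, 1, 2, 5, 3, 4, 6, 7],
    am ![0, 2, 5, 3, 4, 1, 6, 7] ![0, 5, 1, 3, 4, 2, 6, 7],
    am ![0, 1, 2, 4, 5, 3, 6, 7] ![0, 1, 2, 5, 3, 4, 6, 7],
    am ![0, 3, 5, 1, 4, 2, 6, 7] ![0, 3, 5, 1, 4, 2, 6, 7],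
    am ![0, 2, 1, 4, 3, 5, 6, 7] ![0, 2, 1, 4, 3, 5, 6, 7],
    am ![0, 3, 5, 1, 4, 2, 6, 7] ![0, 3, 5, 1, 4, 2, 6, 7],
    by unfold Pr; refine ⟨?_, ?_, ?_, ?_, ?_, ?_⟩ <;> decide +kernel⟩,
    ⟨am ![3, 4, 5, 0, 1, 2, 7, 6] ![3, 4, 5, 0, 1, 2, 7, 6],
    am ![0, 2, 4, 1, 5, 3, 6, 7] ![0, 3, 1, 5, 2, 4, 6, 7],
    am ![0, 1, 5, 4, 3, 2, 6, 7] ![0, 1, 5, 4, 3, 2, 6, 7],
    am ![0, 2, 1, 3, 5, 4, 6, 7] ![0, 2, 1, 3, 5, 4, 6, 7],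
    am ![0, 1, 4, 5, 2, 3, 6, 7] ![0, 1, 4, 5, 2, 3, 6, 7],
    am ![0, 2, 1, 3, 5, 4, 6, 7] ![0, 2, 1, 3, 5, 4, 6, 7],
    am ![0, 3, 5, 1, 4, 2, 6, 7] ![0, 3, 5, 1, 4, 2, 6, 7],
    am ![0, 1, 3, 2, 5, 4, 6, 7] ![0, 1, 3, 2, 5, 4, 6, 7],
    am ![0, 2, 1, 5, 4, 3, 6, 7] ![0, 2, 1, 5, 4, 3, 6, 7],
    by unfold Pr; refine ⟨?_, ?_, ?_, ?_, ?_, ?_⟩ <;> decide +kernel⟩⟩

end Cfsg.Lib.GHB
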