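import Cfsg.Agent.GHB.A5
import Cfsg.Agent.Solv.Quaternion

/-! Extensions of a 2-group by `A₅` of sectional 2-rank at most four: the induction. -/

set_option autoImplicit false

namespace Cfsg.Lib.GHB

open Subgroup Cfsg.Lib.Solv Cfsg.Lib.Solv.PG
open scoped commutatorElement

universe u

variable {X : Type u} [Group X] {K B Q W D H L N : Subgroup X} {g a d f x y : X}

theorem comm_mul_left (x y w : X) : ⁅x * y, w⁆ = x * ⁅y, w⁆ * x⁻¹ * ⁅x, w⁆ := by
  simp only [commutatorElement_def]; group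

theorem comm_mul_right (x y w : X) : ⁅x, y * w⁆ = ⁅x, y⁆ * (y * ⁅x, w⁆ * y⁻¹) := by
  simp only [commutatorElement_def]; group

namespace H5

variable [hQ : Q.Normal] [Finite X]

/-- The group of order 64 does not occur. -/
theorem not_four (h : H5 Q f a d) (h1 : Nat.card (Phi Q) = 4) (h2 : ∀ u ∈ Phi Q, u * u = 1)
    (h3 : ∀ g, ∀ u ∈ Phi Q, g * u = u * g) : False := by
  have : Fact (Nat.Prime 3) := ⟨by norm_num⟩
  have : Fact (Nat.Prime 5) := ⟨by norm_num⟩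
  have hE : EA (Phi Q) Q := EA.phi
  have h3' : ∀ g, ∀ u ∈ Phi Q, g * u * g⁻¹ = u := fun g u hu => by
    rw [h3 g u hu, mul_inv_cancel_right]
  have hL : ∀ c ∈ Phi Q, ∃ L : Subgroup X, L.Normal ∧ L ≤ Phi Q ∧ Nat.card L = 2 ∧ c ∈ L := by
    have key : ∀ c ∈ Phi Q, c ≠ 1 →
        ∃ L : Subgroup X, L.Normal ∧ L ≤ Phi Q ∧ Nat.card L = 2 ∧ c ∈ L := fun c hc n =>
      ⟨zpowers c, zpowers_normal fun g => h3 g c hc, zpowers_le.2 hc,
        card_zpowers_two (h2 c hc) n, mem_zpowers c⟩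
    intro c hc
    by_cases e : c = 1
    · obtain ⟨c', hc', n⟩ := exists_not_mem (H := ⊥) (B := Phi Q) (by rw [card_bot]; omega)
      obtain ⟨L, a1, a2, a3, -⟩ := key c' hc' n
      exact ⟨L, a1, a2, a3, e ▸ one_mem _⟩
    · exact key c hc e
  have cd : ∀ b ∈ Q, d * b * d⁻¹ ∈ Q := fun b hb => hQ.conj_mem b hb d
  have nd := faithful h.simple (fun _ hq _ hb => hE.comm hq hb) h.nt h.dQ
  rcases hE.act3 h.rk cd (fun _ hb => hE.comm h.d3 hb) nd with e | ⟨-, e⟩
  · obtain ⟨v, hv, nv⟩ := nd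
    have hu : ⁅d, v⁆ ∈ Q := mul_mem (cd v hv) (inv_mem hv)
    have orth : ∀ c ∈ Cm (Phi Q) Q d, ⁅⁅d, v⁆, c⁆ = 1 := fun c hc => by
      have e1 : ⁅d * v * d⁻¹, c⁆ = ⁅v, c⁆ := by
        have e2 := h3' d _ (hE.comm hv hc.1)
        rw [conjugate_commutatorElement, show d * c * d⁻¹ = ⁅d, c⁆ * c by
          rw [commutatorElement_def]; group, comm_mul_right, h3' _ _ (hE.comm (cd v hv) hc.1),
          commutatorElement_eq_one_iff_mul_comm.2 (h3 _ _ hc.2), one_mul] at e2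
        exact e2
      rw [commutatorElement_def d v, comm_mul_left, h3' _ _ (hE.comm (inv_mem hv) hc.1), e1,
        ← h3' v⁻¹ _ (hE.comm hv hc.1)]
      simp only [commutatorElement_def]; group
    have t3 : ⁅d, v⁆ * (d * ⁅d, v⁆ * d⁻¹) * (d * (d * ⁅d, v⁆ * d⁻¹) * d⁻¹) ∈ Phi Q := by
      have e1 := hE.comm h.d3 hv
      have e2 := hE.comm hu (mul_mem (cd _ (cd _ hu)) (cd _ hu))
      have e3 := hE.comm (cd _ hu) (cd _ (cd _ hu))
      have := mul_mem (mul_mem (Phi_normal.conj_mem _ e3 ⁅d, v⁆) e2) e1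
      convert this using 1
      simp only [commutatorElement_def, pow_succ, pow_zero]; group
    generalize ⁅d, v⁆ = u at hu nv orth t3
    obtain ⟨L, _, l1, l2, l3⟩ := hL _ (sq_mem_Phi hu)
    have inv : ∀ b ∈ Q, d * b * d⁻¹ ∈ Cm (Phi Q) Q d → b ∈ Cm (Phi Q) Q d := fun b hb hb' => by
      have e1 := Phi_normal.conj_mem _ hb'.2 d⁻¹
      exact ⟨hb, by convert e1 using 1; simp only [commutatorElement_def]; group⟩
    have n1 : u ∉ Cm (Phi Q) Q d := fun hc => nv (by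
      have e1 := mul_mem (inv_mem (mul_mem (Phi_normal.conj_mem _ hc.2 u) (sq_mem_Phi hu))) t3
      have e2 := mul_mem (inv_mem (mul_mem (Phi_normal.conj_mem _ hc.2 d) hc.2)) e1
      convert e2 using 1
      simp only [commutatorElement_def]; group)
    have c1 : ∀ b ∈ Cm (Phi Q) Q d, u * b * u⁻¹ ∈ Cm (Phi Q) Q d :=
      conj_of_comm (le_Cm Phi_le) fun b hb => hE.comm hu hb.1
    have s1 : u * u ∈ Cm (Phi Q) Q d := le_Cm Phi_le (sq_mem_Phi hu)
    have k1 := card_adj c1 s1 n1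
    have l4 : Cm (Phi Q) Q d ⊔ zpowers u ≤ Q := sup_le Cm_le (zpowers_le.2 hu)
    have k2 := card_adj (B := Cm (Phi Q) Q d ⊔ zpowers u) (g := d * u * d⁻¹)
      (conj_of_comm ((le_Cm Phi_le).trans le_sup_left) fun b hb => hE.comm (cd u hu) (l4 hb))
      (mem_sup_left (le_Cm Phi_le (sq_mem_Phi (cd u hu)))) (by
        rw [mem_adj c1 s1]
        rintro (e1 | e1)
        · exact n1 (inv u hu e1)
        · refine n1 (inv u hu (inv _ (cd u hu) ?_))
          have := mul_mem (inv_mem (mul_mem s1 e1)) (le_Cm Phi_le t3)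
          convert this using 1
          group)
    have e1 : Cm (Phi Q) Q d ⊔ zpowers u ⊔ zpowers (d * u * d⁻¹) ≤ Cm L Q u := by
      refine sup_le (sup_le (fun c hc => ⟨hc.1, orth c hc ▸ one_mem _⟩)
        (zpowers_le.2 ⟨hu, by simp⟩)) (zpowers_le.2 ⟨cd u hu, ?_⟩)
      have e2 : ∀ w : X, w * w = u * u → d * w * d⁻¹ * (d * w * d⁻¹) = u * u := fun w hw => by
        rw [← h3' d _ (sq_mem_Phi hu), ← hw]; group
      have e3 := e2 _ (e2 u rfl)
      rw [comm_eq_sq, h3' _ _ (inv_mem (sq_mem_Phi hu)), e2 u rfl]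
      refine mul_mem (mul_mem ?_ (inv_mem l3)) (inv_mem l3)
      have e4 := h2 _ t3
      have e5 := h3 (d * (d * u * d⁻¹) * d⁻¹)⁻¹ _ t3
      generalize d * (d * u * d⁻¹) * d⁻¹ = w at e3 e4 e5
      generalize u * (d * u * d⁻¹) = t at e4 e5
      have : t * t = (u * u)⁻¹ := by
        calc t * t = t * w * (w⁻¹ * (t * w)) * w⁻¹ := by group
          _ = (t * w * (t * w)) * (w * w)⁻¹ := by rw [e5]; group
          _ = _ := by rw [e4, e3, one_mul]
      exact this ▸ inv_mem l3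
    have e2 : Q ≤ Cm L Q u := (eq_of_le_of_card_ge (sup_le l4 (zpowers_le.2 (cd u hu)))
      (by omega)).ge.trans e1
    rcases h.irr (H := Q ⊓ cmod L (Q : Set X)) (le_inf Phi_le fun c hc => mem_cmod.2 fun b _ => by
        rw [commutatorElement_eq_one_iff_mul_comm.2 (h3 b c hc).symm]; exact one_mem _)
      inf_le_left (fun b hb => Normal.conj_mem inferInstance b hb f) with e3 | e3
    · exact nv (e3 ⟨hu, mem_cmod.2 fun b hb => (e2 hb).2⟩)
    · exact h.not_ab l1 (by omega) (fun q _ => h3 q) fun x hx y hy => mem_cmod.1 (e3 hx).2 y hy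
  · obtain ⟨L, hL, l1, l2, -⟩ := hL 1 (one_mem _)
    have key : ∀ g b : X, b * b ∈ L → g * b * g⁻¹ * (g * b * g⁻¹) ∈ L := fun g b hb => by
      simpa [mul_assoc] using hL.conj_mem _ hb g
    have e1 := dvd_card_Sb 3 (P := fun x => x * x ∈ L) cd (fun _ hb => hE.comm h.d3 hb) e
      fun b _ => key d b
    have e2 := dvd_card_Sb 5 (P := fun x => x * x ∈ L) (fun b hb => hQ.conj_mem b hb f)
      (fun _ hb => hE.comm h.f5 hb) h.top.2 fun b _ => key f b
    rcases all_or_none (m := 15) Phi_le h.top.1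
      (Nat.Coprime.mul_dvd_of_dvd_of_dvd (by norm_num) e1 e2) with e3 | e3
    · obtain ⟨x, hx, n, e4⟩ := aniso (L := L) Phi_le (fun q _ => h3 q) (fun _ => sq_mem_Phi)
        (fun u hu v hv => mul_mem_of_card_eq_two_mul l1 (by omega) hu hv) (by rw [h.top.1]; omega)
      exact e3 x hx n e4
    · have := card_le_of_le (Phi_le_iff.2 fun x hx => show x * x ∈ L by
        by_cases n : x ∈ Phi Q
        · exact h2 x n ▸ one_mem _
        · obtain ⟨k, hk, e4⟩ := e3 x hx n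
          rwa [show x * k * (x * k) = x * x by
            rw [mul_assoc, ← mul_assoc k, ← h3 x k hk, mul_assoc x, h2 k hk, mul_one]] at e4)
      omega

theorem step2 (h : H5 Q f a d) (hN : IsMinNormal N) (h1 : N ≤ Phi Q)
    (h2 : Nat.card (Phi Q) = 2 * Nat.card N) (h3 : ∃ x ∈ Q, ∃ y ∈ Q, ⁅x, y⁆ ∉ N) : False := by
  have hn := hN.normal
  have hp : 0 < Nat.card N := Nat.card_pos
  obtain ⟨n1, n2⟩ := min_facts h.two hN (h1.trans Phi_le)
  have e1 : ∀ u ∈ Phi Q, ∀ v ∈ Phi Q, u ∉ N → v ∉ N → u * v ∈ N := fun u hu v hv =>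
    mul_mem_of_card_eq_two_mul h1 h2 hu hv
  obtain ⟨x, hx, y, hy, n⟩ := h3
  have hz := EA.phi.comm hx hy
  have e0 : ⁅x * x, y⁆ = x * ⁅x, y⁆ * x⁻¹ * ⁅x, y⁆ := comm_mul_left _ _ _
  generalize ⁅x, y⁆ = z at n hz e0
  have e2 : ∀ q ∈ Q, ∀ u ∈ Phi Q, u ∉ N → q * u = u * q → q * z = z * q := fun q hq u hu nu e => by
    have e3 := n2 q hq _ (e1 _ (inv_mem hu) _ hz (by rwa [inv_mem_iff]) n)
    calc q * z = u * (u⁻¹ * q * u) * (u⁻¹ * z) := by group
      _ = u * (q * (u⁻¹ * z)) := by rw [mul_assoc u⁻¹, e]; group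
      _ = _ := by rw [e3]; group
  have e3 : ∀ q ∈ Q, q * z = z * q := by
    rcases h.irr (H := Cm ⊥ Q z) (fun u hu => mem_Cm_bot.2 ⟨Phi_le hu, by
        by_cases e : u ∈ N
        exacts [n2 z (Phi_le hz) u e, (e2 u (Phi_le hu) u hu e rfl).symm]⟩) Cm_le
      (fun b hb => mem_Cm_bot.2 ⟨hQ.conj_mem b hb.1 f, (e2 _ (hQ.conj_mem b hb.1 f) _
        (Phi_normal.conj_mem z hz f) (fun e => n (by simpa [mul_assoc] using hn.conj_mem _ e f⁻¹))
        (by rw [conj_mul, conj_mul, (mem_Cm_bot.1 hb).2])).symm⟩) with e | e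
    · exfalso
      have := card_le_of_le (Phi_le_iff.2 fun w hw => show w * w ∈ N by
        by_contra e'
        have e4 := e (mem_Cm_bot.2 ⟨hw, (e2 w hw _ (sq_mem_Phi hw) e' (mul_assoc _ _ _).symm).symm⟩)
        exact e' (e1 w e4 w e4 (fun k => e' (mul_mem k k)) fun k => e' (mul_mem k k)))
      omega
    · exact fun q hq => (mem_Cm_bot.1 (e hq)).2.symm
  have e4 : ∀ q ∈ Q, ∀ u ∈ Phi Q, q * u = u * q := fun q hq u hu => by
    by_cases e : u ∈ N
    · exact n2 q hq u e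
    · have e5 := n2 q hq _ (e1 _ hu _ hz e n)
      calc q * u = q * (u * z) * z⁻¹ := by group
        _ = _ := by rw [e5, mul_assoc u, ← e3 q hq]; group
  have e5 : z * z = 1 := by
    rw [e3 x hx, mul_inv_cancel_right,
      commutatorElement_eq_one_iff_mul_comm.2 (e4 y hy _ (sq_mem_Phi hx)).symm] at e0
    exact e0.symm
  have e6 : ∀ u ∈ Phi Q, u * u = 1 := fun u hu => by
    by_cases e : u ∈ N
    · exact n1 u e
    · have e7 := n1 _ (e1 _ hu _ hz e n)
      rwa [mul_assoc, ← mul_assoc z, ← e3 u (Phi_le hu), mul_assoc u, e5, mul_one] at e7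
  have e7 := (EA.bot e6).card_le h.rk
  rw [card_bot] at e7
  have e8 := card_two_of_central hN n1 (central_of h.simple n2 h.fQ fun e => by
    have := ((EA.bot n1).act5 h.rk (fun b hb => hn.conj_mem b hb f) (comm_bot n2 _ h.f5) e).1
    rw [card_bot] at this
    omega)
  exact h.not_four (by omega) e6 (central_of h.simple e4 h.fQ fun e => by
    have := ((EA.bot e6).act5 h.rk (fun b hb => Phi_normal.conj_mem b hb f)
      (comm_bot e4 _ h.f5) e).1
    rw [card_bot] at this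
    omega)

end H5

theorem H5.main (X : Type u) [Group X] [Finite X] : ∀ (Q : Subgroup X) [Q.Normal] (f a d : X),
    H5 Q f a d → Phi Q = ⊥ ∨ (Nat.card (Phi Q) = 2 ∧ ∃ x ∈ Q, ∃ y ∈ Q, ⁅x, y⁆ ≠ 1) := by
  refine card_induction (P := fun X _ _ => ∀ (Q : Subgroup X) [Q.Normal] (f a d : X),
    H5 Q f a d → Phi Q = ⊥ ∨ (Nat.card (Phi Q) = 2 ∧ ∃ x ∈ Q, ∃ y ∈ Q, ⁅x, y⁆ ≠ 1))
    (fun X _ _ ih Q _ f a d h => ?_) X
  rw [or_iff_not_imp_left]
  intro h0
  obtain ⟨N, hN, h1⟩ := exists_isMinNormal_le (Phi Q) h0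
  have := hN.normal
  have := Normal.map ‹Q.Normal› _ (QuotientGroup.mk'_surjective N)
  rcases ih (X ⧸ N) (card_quotient_lt hN.ne_bot) _ _ _ _ (h.quot h1) with e | ⟨e, _, ⟨x, hx, rfl⟩,
    _, ⟨y, hy, rfl⟩, e'⟩
  · rw [← map_Phi, Subgroup.map_eq_bot_iff, QuotientGroup.ker_mk'] at e
    exact h.step1 (le_antisymm h1 e ▸ hN)
  · rw [← map_Phi, ← rel_eq_card] at e
    refine (h.step2 hN h1 (by rw [← e, relIndex_mul_card_of_le h1]) ⟨x, hx, y, hy, fun k => e' ?_⟩).elim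
    rw [← map_commutatorElement]
    exact (QuotientGroup.eq_one_iff _).2 k

end Cfsg.Lib.GHB
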