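import Cfsg.Agent.GHB.L3a

/-! Extensions of a 2-group by `GL₃(2)`: three transvections with a common centre. -/

set_option autoImplicit false

namespace Cfsg.Lib.GHB

open Subgroup Cfsg.Lib.Solv Cfsg.Lib.Solv.PG Matrix
open scoped commutatorElement

universe u

variable {X : Type u} [Group X] {K B Q N H M R W : Subgroup X}
  {g a b c d e m m' n s x y z ζ ξ : X} {ψ : X →* M3} {π : X → V3}

/-- The matrix is a transvection with centre the first basis vector. -/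
def Ctr (A : M3) : Prop := (∀ v : V3, (A *ᵥ v + v) 1 = 0 ∧ (A *ᵥ v + v) 2 = 0) ∧
  (∀ v : V3, v 1 = 0 → v 2 = 0 → A *ᵥ v + v = 0) ∧
  ∀ v : V3, v 1 = 0 → v 2 = 0 → ∃ u, A *ᵥ u + u = v

theorem ctr_E : Ctr mE := by unfold Ctr; decide +kernel

theorem ctr_F : Ctr mF := by unfold Ctr; decide +kernel

/-- The product of three conjugates. -/
def tt (e d : X) : X := e * (d * e * d⁻¹) * (d * (d * e * d⁻¹) * d⁻¹)

theorem tt_mul (b e d : X) : tt (b * e) d = b * (e * d * b * (e * d)⁻¹) *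
    (e * (d * e * d⁻¹) * d * d * b * (e * (d * e * d⁻¹) * d * d)⁻¹) * tt e d := by
  simp only [tt]; group

theorem psi_F (he : ψ e = mE) (hd : ψ d = mD) : ψ (d * e * d⁻¹) = mF := by
  rw [map_mul, map_mul, inv_of hd (N := mD * mD) (by decide +kernel), he, hd]
  decide +kernel

theorem comm_mem_of (hN : ∀ g, ∀ b ∈ N, g * b * g⁻¹ ∈ N) (h1 : e * e ∈ N)
    (h2 : tt e d * ((d * (d * e * d⁻¹) * d⁻¹)⁻¹ * tt e d * (d * (d * e * d⁻¹) * d⁻¹)⁻¹⁻¹) ∈ N) :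
    ⁅e, d * e * d⁻¹⁆ ∈ N := by
  have e1 := hN d _ h1
  have e2 := mul_mem h2 (inv_mem (hN d _ e1))
  have := mul_mem (mul_mem e2 (hN (d * e * d⁻¹)⁻¹ _ (inv_mem h1))) (inv_mem e1)
  convert this using 1
  simp only [commutatorElement_def, tt]; group

theorem conj_comm_self (h : g * g * x = x * (g * g)) :
    g * ⁅g, x⁆ * g⁻¹ = ⁅g, x⁆⁻¹ := by
  calc _ = g * g * x * (g * g)⁻¹ * (g * x * g⁻¹)⁻¹ := by rw [commutatorElement_def]; group
    _ = _ := by rw [h, commutatorElement_def]; group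

theorem Rep.facts (h : Rep Q ψ) (he : ψ e = mE) (hd : ψ d = mD) : e * e ∈ Q ∧ tt e d ∈ Q ∧
    ⁅e, d * e * d⁻¹⁆ ∈ Q ∧ e ∉ Q ∧ d * e * d⁻¹ ∉ Q ∧ e⁻¹ * (d * e * d⁻¹) ∉ Q ∧ d ^ 3 ∈ Q ∧
    d ∉ Q := by
  have e1 := psi_F he hd
  have e2 := inv_of hd (N := mD * mD) (by decide +kernel)
  have e3 := inv_of he (N := mE) (by decide +kernel)
  have e4 := inv_of e1 (N := mF) (by decide +kernel)
  unfold tt
  generalize d * e * d⁻¹ = f at *
  simp only [← h.ker, commutatorElement_def, map_mul, map_pow, he, hd, e1, e2, e3, e4]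
  decide +kernel

namespace Crd

theorem one (h : Crd Q K B ψ π) : π 1 = 0 := (h.zero 1 (one_mem _)).2 (one_mem _)

theorem inv (h : Crd Q K B ψ π) (ha : a ∈ B) : π a⁻¹ = π a := by
  have := h.add _ ha _ (inv_mem ha)
  rw [mul_inv_cancel, h.one] at this
  exact (by decide +kernel : ∀ u v : V3, 0 = u + v → v = u) _ _ this

theorem comm_mem (h : Crd Q K B ψ π) (g : X) (hb : b ∈ B) : ⁅g, b⁆ ∈ B :=
  mul_mem (h.nrm g b hb) (inv_mem hb)

theorem comm (h : Crd Q K B ψ π) (g : X) (hb : b ∈ B) : π ⁅g, b⁆ = ψ g *ᵥ π b + π b := by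
  rw [commutatorElement_def, h.add _ (h.nrm g b hb) _ (inv_mem hb), h.conj g b hb, h.inv hb]

theorem mem_of_eq (h : Crd Q K B ψ π) (ha : a ∈ B) (hb : b ∈ B) (e : π a = π b) : a * b⁻¹ ∈ K := by
  rw [← h.zero _ (mul_mem ha (inv_mem hb)), h.add _ ha _ (inv_mem hb), h.inv hb, e]
  exact (by decide +kernel : ∀ u : V3, u + u = 0) _

/-- The preimage of the first coordinate line. -/
def Y (h : Crd Q K B ψ π) : Subgroup X where
  carrier := {b | b ∈ B ∧ π b 1 = 0 ∧ π b 2 = 0}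
  one_mem' := ⟨B.one_mem, by simp [h.one]⟩
  mul_mem' := fun {a b} ha hb => ⟨mul_mem ha.1 hb.1, by
    simp [h.add a ha.1 b hb.1, ha.2.1, ha.2.2, hb.2.1, hb.2.2]⟩
  inv_mem' := fun {a} ha => ⟨inv_mem ha.1, by rw [h.inv ha.1]; exact ha.2⟩

theorem le_Y (h : Crd Q K B ψ π) : K ≤ h.Y := fun x hx =>
  ⟨h.le hx, by simp [(h.zero x (h.le hx)).2 hx]⟩

theorem sq (h : Crd Q K B ψ π) (ha : a ∈ B) : a * a ∈ K := by
  simpa using h.mem_of_eq ha (inv_mem ha) (h.inv ha).symm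

theorem card_Y (h : Crd Q K B ψ π) : Nat.card h.Y = 2 * Nat.card K := by
  obtain ⟨y, hy, e⟩ := h.sur ![1, 0, 0]
  have e1 : ∀ b ∈ K, y * b * y⁻¹ ∈ K := fun b hb => by
    have := h.mem_of_eq (mul_mem hy (h.le hb)) hy (by
      rw [h.add _ hy _ (h.le hb), (h.zero b (h.le hb)).2 hb, add_zero])
    exact this
  rw [← card_adj e1 (h.sq hy) (by rw [← h.zero y hy, e]; decide +kernel)]
  congr 2
  refine le_antisymm (fun x hx => (mem_adj e1 (h.sq hy)).2 ?_)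
    (sup_le h.le_Y (zpowers_le.2 ⟨hy, by simp [e]⟩))
  rw [← h.zero x hx.1, ← h.zero _ (mul_mem (inv_mem hy) hx.1), h.add _ (inv_mem hy) _ hx.1,
    h.inv hy, e]
  exact (by decide +kernel : ∀ v : V3, v 1 = 0 → v 2 = 0 → v = 0 ∨ ![1, 0, 0] + v = 0) _
    hx.2.1 hx.2.2

theorem comm_Y (h : Crd Q K B ψ π) (hg : Ctr (ψ g)) (hb : b ∈ B) : ⁅g, b⁆ ∈ h.Y :=
  ⟨h.comm_mem g hb, by rw [h.comm g hb]; exact hg.1 _⟩

theorem comm_K (h : Crd Q K B ψ π) (hg : Ctr (ψ g)) (hb : b ∈ h.Y) : ⁅g, b⁆ ∈ K := by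
  rw [← h.zero _ (h.comm_mem g hb.1), h.comm g hb.1]
  exact hg.2.1 _ hb.2.1 hb.2.2

theorem exists_comm (h : Crd Q K B ψ π) (hg : Ctr (ψ g)) (hb : b ∈ h.Y) :
    ∃ u ∈ B, ∃ k ∈ K, b = k * ⁅g, u⁆ := by
  obtain ⟨v, hv⟩ := hg.2.2 _ hb.2.1 hb.2.2
  obtain ⟨u, hu, rfl⟩ := h.sur v
  exact ⟨u, hu, _, h.mem_of_eq hb.1 (h.comm_mem g hu) (by rw [h.comm g hu, hv]), by group⟩

theorem conj_D (h : Crd Q K B ψ π) (hd : ψ d = mD) (hb : b ∈ h.Y) : d * b * d⁻¹ ∈ h.Y :=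
  ⟨h.nrm d b hb.1, by
    rw [h.conj d b hb.1, hd]
    exact (by decide +kernel : ∀ v : V3, v 1 = 0 → v 2 = 0 →
      (mD *ᵥ v) 1 = 0 ∧ (mD *ᵥ v) 2 = 0) _ hb.2.1 hb.2.2⟩

/-- The key computation. -/
theorem LE (h : Crd Q K B ψ π) (he : ψ e = mE) (hd : ψ d = mD) (hζ : ∀ g, g * ζ = ζ * g)
    (hξ : ∀ g, g * ξ = ξ * g) (hm : m ∈ B) (hm' : m' ∈ B) (h1 : e * e = ζ * m)
    (h2 : ⁅e, d * e * d⁻¹⁆ = ξ * m') (h3 : ξ * ξ ∈ K) (h4 : ⁅d * e * d⁻¹, tt e d⁆ ∈ h.Y) :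
    m ∈ h.Y ∧ m' ∈ h.Y ∧ ⁅m, d * e * d⁻¹⁆ = ξ * ξ * (e * m' * e⁻¹ * m') := by
  have hf := psi_F he hd
  have e1 : e * (d * e * d⁻¹) * d * ⁅e, d * e * d⁻¹⁆ * (e * (d * e * d⁻¹) * d)⁻¹ =
      ⁅e, d * e * d⁻¹⁆ * ⁅d * e * d⁻¹, tt e d⁆ := by
    simp only [commutatorElement_def, tt]; group
  have e2 : ⁅e * e, d * e * d⁻¹⁆ = e * ⁅e, d * e * d⁻¹⁆ * e⁻¹ * ⁅e, d * e * d⁻¹⁆ :=
    comm_mul_left _ _ _
  generalize ⁅d * e * d⁻¹, tt e d⁆ = j at e1 h4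
  generalize d * e * d⁻¹ = f at *
  rw [h2, ← mul_assoc, hξ, mul_assoc ξ, mul_assoc ξ, mul_assoc ξ, mul_right_inj] at e1
  have e3 := h.conj (e * f * d) _ hm'
  rw [e1, h.add _ hm' _ h4.1, map_mul, map_mul, he, hd, hf] at e3
  have e4 := (by decide +kernel : ∀ u v : V3, v 1 = 0 → v 2 = 0 → u + v = (mE * mF * mD) *ᵥ u →
    u 1 = 0 ∧ u 2 = 0) _ _ h4.2.1 h4.2.2 e3
  have e5 : ⁅m, f⁆ = ξ * ξ * (e * m' * e⁻¹ * m') := by
    rw [h1, h2, comm_mul_left, commutatorElement_eq_one_iff_mul_comm.2 (hζ f).symm, mul_one,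
      ← hζ, mul_inv_cancel_right, ← mul_assoc e, hξ e, ← mul_assoc, hξ] at e2
    rw [e2]; group
  have e6 : e * m * e⁻¹ = m := by
    have : e * (ζ * m) * e⁻¹ = ζ * m := by rw [← h1]; group
    rwa [← mul_assoc, hζ, mul_assoc ζ, mul_assoc ζ, mul_right_inj] at this
  refine ⟨⟨hm, ?_⟩, ⟨hm', e4⟩, e5⟩
  have e7 := h.comm f hm
  have e8 := h.conj e m hm
  rw [← h.inv (h.comm_mem f hm), commutatorElement_inv, e5, h.add _ (h.le h3) _
    (mul_mem (h.nrm e _ hm') hm'), (h.zero _ (h.le h3)).2 h3, h.add _ (h.nrm e _ hm') _ hm',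
    h.conj e _ hm', he, hf] at e7
  rw [e6, he] at e8
  exact (by decide +kernel : ∀ u v : V3, v 1 = 0 ∧ v 2 = 0 → u = mE *ᵥ u →
    0 + (mE *ᵥ v + v) = mF *ᵥ u + u → u 1 = 0 ∧ u 2 = 0) _ _ e4 e8 e7

theorem adjust (h : Crd Q K B ψ π) (hB : B ≤ Q) (he : ψ e = mE) (hd : ψ d = mD) (h1 : e * e ∈ B)
    (h2 : tt e d ∈ B) : ∃ e', ψ e' = mE ∧ e' * e' ∈ K ∧ tt e' d ∈ B := by
  have e1 := (h.LE he hd (ζ := 1) (ξ := 1) (by simp) (by simp) h1 (comm_mem_of h.nrm h1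
    (mul_mem h2 (h.nrm _ _ h2))) (by simp) (by simp) (by simp)
    (h.comm_Y (psi_F he hd ▸ ctr_F) h2)).1
  obtain ⟨v, hv⟩ := ctr_E.2.2 _ e1.2.1 e1.2.2
  obtain ⟨b, hb, rfl⟩ := h.sur v
  refine ⟨b * e, by rw [map_mul, (h.ker b).2 (hB hb), one_mul, he], ?_, ?_⟩
  · have e2 := mul_mem hb (h.nrm e _ hb)
    rw [show b * e * (b * e) = b * (e * b * e⁻¹) * (e * e) by group, ← h.zero _ (mul_mem e2 h1),
      h.add _ e2 _ h1, h.add _ hb _ (h.nrm e _ hb), h.conj e _ hb, he, ← hv]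
    exact (by decide +kernel : ∀ u v : V3, u + v + (v + u) = 0) _ _
  · rw [tt_mul]
    exact mul_mem (mul_mem (mul_mem hb (h.nrm _ _ hb)) (h.nrm _ _ hb)) h2

/-- The group `Z₈ × E₈` does not occur. -/
theorem not_Z8 [Finite X] (h : Crd Q N M ψ π) (h4 : SectionalPRankLE 2 4 X) (hM : M ≤ Q)
    (ab : ∀ x ∈ Q, ∀ y ∈ Q, x * y = y * x) (om : ∀ x ∈ Q, x * x = 1 ↔ x ∈ M)
    (hN : ∀ k ∈ N, ∀ g, g * k = k * g) (c2 : Nat.card N = 2) (c16 : Nat.card M = 16) (hc : c ∈ Q)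
    (hζ : ∀ g, g * (c * c) = c * c * g) (c4 : c * c * (c * c) ∈ N) (c5 : c * c ∉ M)
    (cm : ∀ g : X, ⁅g, c⁆ ∈ M) (gen : ∀ q ∈ Q, ∃ r ∈ M, ∃ j : ℕ, q = c ^ j * r) : False := by
  have hMn : M.Normal := ⟨fun b hb g => h.nrm g b hb⟩
  obtain ⟨d, hd⟩ := h.onto mD (mD * mD) (by decide +kernel)
  let p := QuotientGroup.mk' M
  have p1 : ∀ x, p x = 1 ↔ x ∈ M := fun x => QuotientGroup.eq_one_iff x
  have pc : ∀ g, Commute (p g) (p c) := fun g => by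
    rw [← commutatorElement_eq_one_iff_commute, ← map_commutatorElement, p1]
    exact cm g
  have p4 : p c ^ 4 = 1 := by
    rw [← map_pow, p1, show c ^ 4 = c * c * (c * c) by simp [pow_succ, mul_assoc]]
    exact h.le c4
  have pq : ∀ q ∈ Q, ∃ j : ℕ, p q = p c ^ j := fun q hq => by
    obtain ⟨r, hr, j, rfl⟩ := gen q hq
    exact ⟨j, by rw [map_mul, (p1 r).2 hr, mul_one, map_pow]⟩
  obtain ⟨e, he, ht⟩ : ∃ e, ψ e = mE ∧ tt e d ∈ M := by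
    obtain ⟨e, he⟩ := h.onto mE mE (by decide +kernel)
    obtain ⟨j, hj⟩ := pq _ (h.facts he hd).2.1
    refine ⟨c ^ j * e, by rw [map_mul, (h.ker _).2 (pow_mem hc j), one_mul, he], (p1 _).1 ?_⟩
    have k := fun g => ((pc g).pow_right j).eq
    rw [tt_mul]
    generalize e * (d * e * d⁻¹) * d * d = u
    generalize e * d = v
    simp only [map_mul, map_inv, map_pow, hj, k, mul_inv_cancel_right]
    rw [← pow_add, ← pow_add, ← pow_add, show j + j + j + j = 4 * j by ring, pow_mul, p4, one_pow]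
  obtain ⟨f1, f2, f3, f4, f5, f6, -⟩ := h.facts he hd
  have e1 : e * e * (e * e) ∈ M ∧ (e * e)⁻¹ * ⁅e, d * e * d⁻¹⁆ ∈ M := by
    obtain ⟨i, hi⟩ := pq _ f1
    obtain ⟨j, hj⟩ := pq _ f3
    have k1 := fun g => hi ▸ ((pc g).pow_right i).eq
    have k2 := fun g => hj ▸ ((pc g).pow_right j).eq
    have k3 : p (e * e) ^ 4 = 1 := by rw [hi, ← pow_mul, mul_comm, pow_mul, p4, one_pow]
    have k4 : p ⁅e, d * e * d⁻¹⁆ * p ⁅e, d * e * d⁻¹⁆ = 1 := by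
      have := congrArg p (comm_mul_left e e (d * e * d⁻¹))
      rw [map_commutatorElement, commutatorElement_eq_one_iff_mul_comm.2 (k1 _).symm, map_mul,
        map_mul, map_mul, k2, map_inv, mul_inv_cancel_right] at this
      exact this.symm
    have k5 : p ⁅e, d * e * d⁻¹⁆ * p (e * e) * p (e * e) * p (e * e) = 1 := by
      have k6 := (p1 _).2 ht
      have k7 : ⁅e, d * e * d⁻¹⁆ * (d * (e * e) * d⁻¹) *
          ((d * e * d⁻¹)⁻¹ * (e * e) * (d * e * d⁻¹)⁻¹⁻¹) * (d * d * (e * e) * (d * d)⁻¹) =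
          tt e d * ((d * (d * e * d⁻¹) * d⁻¹)⁻¹ * tt e d * (d * (d * e * d⁻¹) * d⁻¹)) := by
        simp only [commutatorElement_def, tt]; group
      have := congrArg p k7
      generalize d * (d * e * d⁻¹) * d⁻¹ = u at this
      generalize ⁅e, d * e * d⁻¹⁆ = w' at this ⊢
      generalize (d * e * d⁻¹)⁻¹ = u' at this
      generalize d * d = v at this
      generalize e * e = w at this k1 ⊢
      simpa only [map_mul, map_inv, k1, k6, mul_inv_cancel_right, mul_one, inv_mul_cancel]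
        using this
    rw [← p1, ← p1, map_mul, map_mul p (e * e)⁻¹, map_inv]
    generalize p (e * e) = w at k3 k5 ⊢
    generalize p ⁅e, d * e * d⁻¹⁆ = k at k4 k5 ⊢
    obtain rfl : k = (w * w * w)⁻¹ := by rw [eq_inv_iff_mul_eq_one, ← k5]; group
    constructor
    · calc w * w = ((w * w * w)⁻¹ * (w * w * w)⁻¹)⁻¹ * (w ^ 4)⁻¹ := by rw [← pow_two]; group
        _ = 1 := by rw [k3, k4]; group
    · rw [← inv_one, ← k3]; group
  obtain ⟨ξ, x1, x2, x3, x4⟩ : ∃ ξ ∈ Q, (∀ g, g * ξ = ξ * g) ∧ ξ * ξ ∈ N ∧ ξ⁻¹ * (e * e) ∈ M := by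
    obtain ⟨r, hr, j, hj⟩ := gen _ f1
    have cζ : ∀ g, Commute g (c * c) := hζ
    obtain ⟨i, rfl | rfl⟩ := j.even_or_odd'
    · refine ⟨c ^ (2 * i), pow_mem hc _, fun g => ?_, ?_, by rwa [hj, inv_mul_cancel_left]⟩
      · rw [pow_mul, pow_two]
        exact ((cζ g).pow_right i).eq
      · rw [pow_mul, pow_two, ← (Commute.refl _).mul_pow]
        exact pow_mem c4 i
    · refine (c5 ((p1 _).1 ?_)).elim
      have := (p1 _).2 e1.1
      rw [hj, map_mul, map_mul, (p1 r).2 hr, mul_one, map_pow, ← pow_add,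
        show 2 * i + 1 + (2 * i + 1) = 4 * i + 2 by ring, pow_add, pow_mul, p4, one_pow, one_mul,
        pow_two] at this
      rwa [map_mul]
  have x5 : ξ⁻¹ * ⁅e, d * e * d⁻¹⁆ ∈ M := by
    have := mul_mem x4 e1.2
    rwa [mul_assoc, mul_inv_cancel_left] at this
  have cE : Ctr (ψ e) := he ▸ ctr_E
  have cF : Ctr (ψ (d * e * d⁻¹)) := psi_F he hd ▸ ctr_F
  obtain ⟨y1, y2, y3⟩ := h.LE he hd x2 x2 x4 x5 (mul_inv_cancel_left _ _).symm
    (mul_inv_cancel_left _ _).symm x3 (h.comm_Y cF ht)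
  have cY : ∀ g, Ctr (ψ g) → g * g ∈ Q → ∀ y ∈ h.Y, g * y * g⁻¹ = y := fun g hg hg' y hy => by
    obtain ⟨u, hu, k, hk, rfl⟩ := h.exists_comm hg hy
    rw [← conj_mul, conj_comm_self (ab _ hg' _ (hM hu)), hN k hk g, mul_inv_cancel_right,
      inv_eq_of_mul_eq_one_right ((om _ (hM (h.comm_mem g hu))).2 (h.comm_mem g hu))]
  have f7 : d * e * d⁻¹ * (d * e * d⁻¹) ∈ Q := by
    rw [conj_mul, ← h.ker, map_mul, map_mul, (h.ker _).2 f1, mul_one, ← map_mul, mul_inv_cancel,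
      map_one]
  rw [cY e cE f1 _ y2, (om _ (hM x5)).2 x5, mul_one,
    commutatorElement_eq_one_iff_mul_comm.2 (mul_inv_eq_iff_eq_mul.1 (cY _ cF f7 _ y1)).symm] at y3
  have x6 := (om ξ x1).1 y3.symm
  have x7 : ξ ∈ h.Y := ⟨x6, by
    have a1 := h.conj e ξ x6
    have a2 := h.conj (d * e * d⁻¹) ξ x6
    rw [x2, mul_inv_cancel_right] at a1 a2
    rw [he] at a1
    rw [psi_F he hd] at a2
    exact (by decide +kernel : ∀ u : V3, u = mE *ᵥ u → u = mF *ᵥ u → u 1 = 0 ∧ u 2 = 0) _ a1 a2⟩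
  have z1 : e * e ∈ h.Y := by simpa only [mul_inv_cancel_left] using mul_mem x7 y1
  have z2 : ⁅e, d * e * d⁻¹⁆ ∈ h.Y := by simpa only [mul_inv_cancel_left] using mul_mem x7 y2
  have hE : EA h.Y M := ⟨fun _ hx => hx.1, fun x hx => h.le_Y (h.sq hx), fun x hx k hk => by
    rwa [ab x (hM hx) k (hM hk.1), mul_inv_cancel_right]⟩
  have co : ∀ g : X, ⁅g, c * c⁆ ∈ h.Y := fun g =>
    commutatorElement_eq_one_iff_mul_comm.2 (hζ g) ▸ one_mem _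
  have co' : ∀ b ∈ M, ⁅c * c, b⁆ ∈ h.Y := fun g _ =>
    commutatorElement_eq_one_iff_mul_comm.2 (hζ g).symm ▸ one_mem _
  have l : M ⊔ zpowers (c * c) ≤ Q := sup_le hM (zpowers_le.2 (mul_mem hc hc))
  have := (hE.adj co' (h.le_Y c4)).card_le2 h4
    (hE.comm_adj co' (h.le_Y c4) (fun b hb => h.comm_Y cE hb) (co _)) z1
    (hE.comm_adj co' (h.le_Y c4) (fun b hb => h.comm_Y cF hb) (co _))
    (by rw [conj_mul]; exact h.conj_D hd z1)
    (by rw [← commutatorElement_inv]; exact inv_mem z2) (fun k => f4 (l k)) (fun k => f5 (l k))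
    fun k => f6 (l k)
  rw [card_adj (conj_of_comm hE.le co') (h.le c4) c5, h.card_Y] at this
  omega

/-- Coordinates on the squares of a homocyclic group. -/
theorem sq_crd [Finite X] (h : Crd Q W R ψ π) (ab : ∀ x ∈ R, ∀ y ∈ R, x * y = y * x)
    (om : ∀ x ∈ R, x * x = 1 ↔ x ∈ W) (c8 : Nat.card W = 8) :
    ∃ π', Crd Q ⊥ W ψ π' ∧ ∀ r ∈ R, π' (r * r) = π r := by
  choose l l1 l2 using h.sur
  have e1 : ∀ x ∈ R, ∀ y ∈ R, x * x = y * y → π x = π y := fun x hx y hy e => by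
    have e2 := (h.zero _ (mul_mem hx hy)).2 ((om _ (mul_mem hx hy)).1 (by
      rw [mul_assoc, ← mul_assoc y, ab y hy x hx, mul_assoc, ← mul_assoc, ← e,
        (om _ (mul_mem hx hx)).2 (h.sq hx)]))
    rw [h.add x hx y hy] at e2
    exact (by decide +kernel : ∀ u v : V3, u + v = 0 → u = v) _ _ e2
  have e2 : ∀ w ∈ W, ∃ r ∈ R, r * r = w := fun w hw => by
    have : Function.Bijective fun v : V3 => (⟨l v * l v, h.sq (l1 v)⟩ : W) :=
      (Nat.bijective_iff_injective_and_card _).2 ⟨fun u v e => by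
        rw [← l2 u, ← l2 v]
        exact e1 _ (l1 u) _ (l1 v) (congrArg Subtype.val e), by rw [c8]; simp⟩
    obtain ⟨v, e⟩ := this.2 ⟨w, hw⟩
    exact ⟨_, l1 v, congrArg Subtype.val e⟩
  choose! t t1 t2 using e2
  have e3 : ∀ r ∈ R, π (t (r * r)) = π r := fun r hr =>
    e1 _ (t1 _ (h.sq hr)) _ hr (t2 _ (h.sq hr))
  have e4 : ∀ {P : X → Prop}, (∀ r ∈ R, P (r * r)) → ∀ w ∈ W, P w := fun hP w hw =>
    t2 w hw ▸ hP _ (t1 w hw)
  refine ⟨fun w => π (t w), ⟨h.toRep, bot_le, fun g => e4 fun r hr => ?_,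
    e4 fun r hr => e4 fun r' hr' => ?_, fun v => ⟨_, h.sq (l1 v), (e3 _ (l1 v)).trans (l2 v)⟩,
    e4 fun r hr => ?_, fun g => e4 fun r hr => ?_⟩, e3⟩
  · rw [← conj_mul]
    exact h.sq (h.nrm g r hr)
  · rw [show r * r * (r' * r') = r * r' * (r * r') by
      rw [mul_assoc, mul_assoc, ← mul_assoc r r', ← mul_assoc r', ab r hr r' hr'],
      e3 _ (mul_mem hr hr'), e3 _ hr, e3 _ hr', h.add _ hr _ hr']
  · rw [e3 r hr, h.zero r hr, mem_bot, om r hr]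
  · rw [← conj_mul, e3 _ (h.nrm g r hr), e3 r hr, h.conj g r hr]

/-- Extensions of `Z₄³` do not occur. -/
theorem not_Z4 [Finite X] (h : Crd Q W R ψ π) (h4 : SectionalPRankLE 2 4 X) (hQ : IsPGroup 2 Q)
    (hR : R ≤ Q) (ab : ∀ x ∈ R, ∀ y ∈ R, x * y = y * x) (om : ∀ x ∈ R, x * x = 1 ↔ x ∈ W)
    (c8 : Nat.card W = 8) (h1 : ∀ q ∈ Q, q ∉ R → ∀ r ∈ R, q * r * q⁻¹ = r⁻¹)
    (h2 : ∀ q ∈ Q, ∀ q' ∈ Q, q ∉ R → q' ∉ R → q * q' ∈ R) : False := by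
  obtain ⟨π', h', hs⟩ := h.sq_crd ab om c8
  have nQ : ∀ g, ∀ q ∈ Q, g * q * g⁻¹ ∈ Q := fun g q hq => by
    rw [← h.ker, map_mul, map_mul, (h.ker _).2 hq, mul_one, ← map_mul, mul_inv_cancel, map_one]
  obtain ⟨d, hd, d3⟩ : ∃ d, ψ d = mD ∧ d ^ 3 = 1 := by
    obtain ⟨d, hd⟩ := h.onto mD (mD * mD) (by decide +kernel)
    obtain ⟨q, hq, e⟩ := lift_odd (x := d) (p := 3) (m := 1) hQ (by decide)
      ((h.ker _).1 (by rw [map_pow, hd]; decide +kernel))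
    exact ⟨_, by rw [map_mul, (h.ker q).2 hq, mul_one, hd], e⟩
  obtain ⟨e, he, ht⟩ : ∃ e, ψ e = mE ∧ tt e d ∈ R := by
    obtain ⟨e, he⟩ := h.onto mE mE (by decide +kernel)
    have hq := (h.facts he hd).2.1
    by_cases ht : tt e d ∈ R
    · exact ⟨e, he, ht⟩
    have n : ∀ g, g * tt e d * g⁻¹ ∉ R := fun g k => ht (by simpa [mul_assoc] using h.nrm g⁻¹ _ k)
    refine ⟨tt e d * e, by rw [map_mul, (h.ker _).2 hq, one_mul, he], ?_⟩
    rw [tt_mul, mul_assoc]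
    exact mul_mem (h2 _ hq _ (nQ _ _ hq) ht (n _)) (h2 _ (nQ _ _ hq) _ hq (n _) ht)
  have ee : e * e ∈ R := by
    by_contra n
    obtain ⟨u, hu, e1⟩ := h.sur ![0, 1, 0]
    have e2 : ⁅e, u⁆ ∈ W := by
      rw [← h.zero _ (h.comm_mem e hu), h.comm e hu, he, e1]; decide +kernel
    have e3 := h'.comm e e2
    rw [show ⁅e, ⁅e, u⁆⁆ = (e * e * u * (e * e)⁻¹) * (e * u * e⁻¹)⁻¹ * u * (e * u * e⁻¹)⁻¹ by
      simp only [commutatorElement_def]; group, h1 _ (h.facts he hd).1 n u hu,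
      ab _ (inv_mem hu) _ (inv_mem (h.nrm e u hu)), inv_mul_cancel_right,
      hs _ (inv_mem (h.nrm e u hu)), h.inv (h.nrm e u hu), h.conj e u hu, he, e1] at e3
    exact (by decide +kernel : ∀ v : V3, mE *ᵥ ![0, 1, 0] ≠ mE *ᵥ v + v) _ e3
  obtain ⟨e, he, ee, ht⟩ := h.adjust hR he hd ee ht
  obtain ⟨-, -, -, f4, f5, f6, -⟩ := h.facts he hd
  have cE : Ctr (ψ e) := he ▸ ctr_E
  have cF : Ctr (ψ (d * e * d⁻¹)) := psi_F he hd ▸ ctr_F
  have tY : tt e d ∈ h.Y := ⟨ht, by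
    have e1 := h.conj d _ ht
    have e2 := h.conj e⁻¹ _ ht
    rw [show e⁻¹ * tt e d * e⁻¹⁻¹ = d * tt e d * d⁻¹ by
      calc _ = d * tt e d * d⁻¹ * (d ^ 3 * e * (d ^ 3)⁻¹)⁻¹ * e := by simp only [tt]; group
        _ = _ := by rw [d3]; group, e1, hd, inv_of he (N := mE) (by decide +kernel)] at e2
    exact (by decide +kernel : ∀ v : V3, mD *ᵥ v = mE *ᵥ v → v 1 = 0 ∧ v 2 = 0) _ e2⟩
  have kW : ⁅e, d * e * d⁻¹⁆ ∈ W := comm_mem_of h'.nrm ee (by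
    rw [← h.zero _ (mul_mem ht (h.nrm _ _ ht)), h.add _ ht _ (h.nrm _ _ ht), h.conj _ _ ht,
      inv_of (M := mD * mF * (mD * mD)) (N := mE * mF) (by
        rw [map_mul, map_mul, psi_F he hd, inv_of hd (N := mD * mD) (by decide +kernel), hd])
        (by decide +kernel)]
    exact (by decide +kernel : ∀ v : V3, v 1 = 0 → v 2 = 0 → v + (mE * mF) *ᵥ v = 0) _ tY.2.1
      tY.2.2)
  have sqY : ∀ y ∈ h.Y, y * y ∈ h'.Y := fun y hy => ⟨h.sq hy.1, by rw [hs y hy.1]; exact hy.2⟩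
  have cY : ∀ g, Ctr (ψ g) → g * g ∈ R → ∀ y ∈ h.Y, ⁅g, y⁆ ∈ h'.Y := fun g hg hg' y hy => by
    obtain ⟨u, hu, k, hk, rfl⟩ := h.exists_comm hg hy
    rw [comm_mul_right, commutatorElement_def g ⁅g, u⁆, conj_comm_self (ab _ hg' _ hu),
      ab k (h.le hk) _ (mul_mem (inv_mem (h.comm_mem g hu)) (inv_mem (h.comm_mem g hu))),
      mul_inv_cancel_right]
    exact mul_mem (h'.comm_Y hg hk) (sqY _ (inv_mem (h.comm_Y hg hu)))
  have ff : d * e * d⁻¹ * (d * e * d⁻¹) ∈ R := by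
    rw [conj_mul]; exact h.nrm _ _ (h.le ee)
  obtain ⟨y1, y2, -⟩ := h'.LE he hd (ζ := 1) (ξ := 1) (by simp) (by simp) ee kW (by simp) (by simp)
    (by simp) (cY _ cF ff _ tY)
  have hE : EA h'.Y h.Y := ⟨fun _ hx => h.le_Y hx.1, sqY, fun x hx k hk => by
    rwa [ab x hx.1 k (h.le hk.1), mul_inv_cancel_right]⟩
  have := hE.card_le2 h4 (cY _ cE (h.le ee)) y1 (cY _ cF ff)
    (by rw [conj_mul]; exact h'.conj_D hd y1) (by rw [← commutatorElement_inv]; exact inv_mem y2)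
    (fun k => f4 (hR k.1)) (fun k => f5 (hR k.1)) fun k => f6 (hR k.1)
  rw [h.card_Y, h'.card_Y, card_bot] at this
  omega

end Crd

end Cfsg.Lib.GHB
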