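import Cfsg.Agent.GHB.L3b
import Cfsg.Agent.Solv.CoprimeAbelian

/-! Extensions of a 2-group by `GL₃(2)` of sectional 2-rank at most four: the set-up. -/

set_option autoImplicit false

namespace Cfsg.Lib.GHB

open Subgroup Cfsg.Lib.Solv Cfsg.Lib.Solv.PG Matrix
open scoped commutatorElement

universe u

variable {X : Type u} [Group X] {K B Q N H M R W : Subgroup X}
  {g a b c d e n s x y z : X} {φ ψ : X →* M3} {π : X → V3}

/-- The hypotheses. -/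
structure H7 (Q : Subgroup X) (φ : X →* M3) (s : X) : Prop where
  two : IsPGroup 2 Q
  rk : SectionalPRankLE 2 4 X
  rep : Rep Q φ
  s7 : s ^ 7 = 1
  nt : ∃ q ∈ Q, ⁅s, q⁆ ∉ Phi Q

/-- `Q / N` is the direct product of `R / N` of order eight and a cyclic group. -/
structure PM (Q N R : Subgroup X) (s c : X) : Prop where
  NR : N ≤ R
  RQ : R ≤ Q
  card : Nat.card R = 8 * Nat.card N
  sq : ∀ r ∈ R, r * r ∈ N
  inv : ∀ r ∈ R, s * r * s⁻¹ ∈ R
  fpf : ∀ r ∈ R, ⁅s, r⁆ ∈ N → r ∈ N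
  cQ : c ∈ Q
  cs : s * c = c * s
  c4 : c * c * (c * c) ∈ N
  gen : ∀ q ∈ Q, ∃ r ∈ R, ∃ j : ℕ, q = c ^ j * r
  ab : ∀ x ∈ Q, ∀ y ∈ Q, ⁅x, y⁆ ∈ N

theorem conj_comm_of (h : s * c = c * s) (e : x * c = c * x) :
    s * x * s⁻¹ * c = c * (s * x * s⁻¹) :=
  (Commute.mul_left (Commute.mul_left h e) (Commute.inv_left h)).eq

theorem odd7 [K.Normal] (h : s ^ 7 = 1) (h1 : ⁅s, ⁅s, c⁆⁆ ∈ K) (h2 : ⁅s, c⁆ * ⁅s, c⁆ ∈ K) :
    ⁅s, c⁆ ∈ K := by
  have e : ∀ x y : X, ⁅x, y⁆ ∈ K ↔ Commute (QuotientGroup.mk' K x) (QuotientGroup.mk' K y) :=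
    fun x y => by
      rw [← commutatorElement_eq_one_iff_commute, ← map_commutatorElement]
      exact (QuotientGroup.eq_one_iff _).symm
  rw [e] at h1 ⊢
  refine Coprime.commute_of_commute_commutator h1 (Nat.Coprime.coprime_dvd_left
    (orderOf_dvd_of_pow_eq_one (n := 7) (by rw [← map_pow, h, map_one]))
    (Nat.Coprime.coprime_dvd_right (orderOf_dvd_of_pow_eq_one (n := 2) ?_) (by norm_num)))
  rw [pow_two]
  exact (QuotientGroup.eq_one_iff _).2 h2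

theorem coprime7 [Finite X] (h : s ^ 7 = 1) (hN : IsPGroup 2 N) :
    (Nat.card (zpowers s)).Coprime (Nat.card N) := by
  obtain ⟨k, hk⟩ := hN.exists_card_eq
  rw [Nat.card_zpowers, hk]
  exact Nat.Coprime.coprime_dvd_left (orderOf_dvd_of_pow_eq_one h)
    (Nat.Coprime.pow_right _ (by norm_num))

theorem H7.sQ [Q.Normal] (h : H7 Q φ s) : s ∉ Q := fun e => by
  obtain ⟨q, hq, e'⟩ := h.nt
  exact e' (EA.phi.comm e hq)

theorem H7.c7 (h : H7 Q φ s) : ∀ b ∈ B, ⁅s ^ 7, b⁆ ∈ K := fun b _ => by simp [h.s7]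

theorem H7.quot (h : H7 Q φ s) [N.Normal] (hN : N ≤ Q) (h1 : ∃ q ∈ Q, ⁅s, q⁆ ∉ Phi Q ⊔ N) :
    ∃ φ', H7 (Q.map (QuotientGroup.mk' N)) φ' (QuotientGroup.mk' N s) := by
  obtain ⟨φ', h'⟩ := h.rep.quot hN
  obtain ⟨q, hq, e⟩ := h1
  refine ⟨φ', h.two.map _, secRank_quotient h.rk N, h', by rw [← map_pow, h.s7, map_one],
    _, ⟨q, hq, rfl⟩, ?_⟩
  rwa [← map_Phi, ← map_commutatorElement, ← mem_comap, comap_map_eq, QuotientGroup.ker_mk']

theorem PM.pull [Finite X] [N.Normal] (hN : N ≤ Q) (hQ : IsPGroup 2 Q) (h7 : s ^ 7 = 1)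
    {R' : Subgroup (X ⧸ N)} {c' : X ⧸ N}
    (h : PM (Q.map (QuotientGroup.mk' N)) ⊥ R' (QuotientGroup.mk' N s) c') :
    ∃ R c, PM Q N R s c := by
  have p1 : ∀ x, QuotientGroup.mk' N x = 1 ↔ x ∈ N := fun x => QuotientGroup.eq_one_iff x
  obtain ⟨c, hc, rfl⟩ := h.cQ
  have := Coprime.isSolvable_of_isPGroup (hQ.to_le hN)
  obtain ⟨k, hk, e⟩ := Coprime.exists_mul_mem_centralizer (A := zpowers s) (H := N) (g := c)
    (by rw [normalizer_eq_top]; exact le_top) (coprime7 h7 (hQ.to_le hN)) (Or.inr this) (by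
      rintro _ ⟨i, rfl⟩
      have e := (Commute.zpow_left h.cs i).eq
      simp only [← p1, map_mul, map_inv, map_zpow, e, mul_inv_cancel_right, inv_mul_cancel])
  have e1 : QuotientGroup.mk' N (c * k) = QuotientGroup.mk' N c := by
    rw [map_mul, (p1 k).2 hk, mul_one]
  have l : N ≤ R'.comap (QuotientGroup.mk' N) := fun x hx => by
    rw [mem_comap, (p1 x).2 hx]; exact one_mem _
  refine ⟨R'.comap (QuotientGroup.mk' N), c * k, l, fun x hx => (mk_mem_map hN).1 (h.RQ hx), ?_,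
    fun r hr => (p1 _).1 (h.sq _ hr), fun r hr => h.inv _ hr,
    fun r hr e => (p1 _).1 (h.fpf _ hr ((p1 _).2 e)), mul_mem hc (hN hk), e s (mem_zpowers s),
    (p1 _).1 ?_, fun q hq => ?_, fun x hx y hy => (p1 _).1 (h.ab _ ⟨x, hx, rfl⟩ _ ⟨y, hy, rfl⟩)⟩
  · rw [← relIndex_mul_card_of_le l, rel_eq_card,
      map_comap_eq_self_of_surjective (QuotientGroup.mk'_surjective N), h.card, card_bot]
  · rw [map_mul, map_mul, e1]
    exact h.c4
  · obtain ⟨r, hr, j, e⟩ := h.gen _ ⟨q, hq, rfl⟩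
    refine ⟨((c * k) ^ j)⁻¹ * q, ?_, j, by rw [mul_inv_cancel_left]⟩
    rwa [mem_comap, map_mul, map_inv, map_pow, e1, e, inv_mul_cancel_left]

theorem PM.sq_cases [N.Normal] (h : PM Q N R s c) (hx : x ∈ Q) :
    x * x ∈ N ∨ x * x * (c * c)⁻¹ ∈ N := by
  have p1 : ∀ x, QuotientGroup.mk' N x = 1 ↔ x ∈ N := fun x => QuotientGroup.eq_one_iff x
  obtain ⟨r, hr, j, rfl⟩ := h.gen x hx
  have e1 := (p1 _).2 (h.ab _ (pow_mem h.cQ j) _ (h.RQ hr))
  have e2 := (p1 _).2 (h.sq r hr)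
  have e3 := (p1 _).2 h.c4
  simp only [← p1, map_mul, map_inv, map_pow, map_commutatorElement,
    commutatorElement_eq_one_iff_mul_comm] at e1 e2 e3 ⊢
  generalize QuotientGroup.mk' N r = u at *
  generalize QuotientGroup.mk' N c = v at *
  rw [mul_assoc, ← mul_assoc u, ← e1, mul_assoc, e2, mul_one, ← (Commute.refl v).mul_pow]
  obtain ⟨i, rfl | rfl⟩ := j.even_or_odd'
  · exact Or.inl (by rw [pow_mul, pow_two, e3, one_pow])
  · exact Or.inr (by rw [pow_succ, pow_mul, pow_two, e3, one_pow, one_mul, mul_inv_cancel])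

variable [Finite X]

theorem mem_two (h : Nat.card H = 2) (hx : x ∈ H) (hy : y ∈ H) (h1 : x ≠ 1) : y = 1 ∨ y = x :=
  or_iff_not_imp_left.2 fun e => mul_inv_eq_one.1 (mem_bot.1 (mul_mem_of_card_eq_two_mul bot_le
    (by rw [h, card_bot]) hy (inv_mem hx) e (by simpa using h1)))

theorem split (h7 : s ^ 7 = 1) (h1 : ∀ b ∈ B, b * b = 1) (h2 : ∀ b ∈ B, s * b * s⁻¹ ∈ B)
    (h3 : Nat.card B = 16) (h5 : Nat.card (Cm ⊥ B s) = 2) (hn : n ∈ Cm ⊥ B s) (n1 : n ≠ 1) :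
    ∃ R ≤ B, Nat.card R = 8 ∧ (∀ r ∈ R, s * r * s⁻¹ ∈ R) ∧
      (∀ r ∈ R, ⁅s, r⁆ ∈ (⊥ : Subgroup X) → r ∈ (⊥ : Subgroup X)) ∧
      ∀ b ∈ B, ∃ r ∈ R, b = r ∨ b = n * r := by
  have := (isElementaryAbelian_of_sq h1).1
  have hP : IsPGroup 2 B := fun x => ⟨1, Subtype.ext (by simpa [pow_two] using h1 x x.2)⟩
  have := Coprime.isSolvable_of_isPGroup hP
  have e0 : zpowers s ≤ normalizer (B : Set X) := zpowers_le.2 (mem_normalizer_of_conj_mem h2)
  have e1 : B ⊓ centralizer (zpowers s : Set X) = Cm ⊥ B s := Subgroup.ext fun x =>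
    (and_congr_right fun _ => ⟨fun e => e s (mem_zpowers s), by
      rintro e _ ⟨i, rfl⟩
      exact (Commute.zpow_left e i).eq⟩).trans mem_Cm_bot.symm
  have e2 := Coprime.card_centralizer_mul_card_commutator e0 (coprime7 h7 hP)
  have e3 := Coprime.centralizer_inf_commutator_eq_bot e0 (coprime7 h7 hP)
  have l : ⁅B, zpowers s⁆ ≤ B := commutator_le.2 fun b hb a ha => by
    simpa [commutatorElement_def, mul_assoc] using
      mul_mem hb ((mem_normalizer_iff.1 (e0 ha) _).1 (inv_mem hb))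
  rw [e1] at e2 e3
  rw [h5] at e2
  refine ⟨_, l, by omega, fun r hr => ?_, fun r hr e => e3.le ⟨⟨l hr, e⟩, hr⟩, fun b hb => ?_⟩
  · have := mul_mem (inv_mem (commutator_mem_commutator (l hr) (mem_zpowers s))) hr
    simpa [commutatorElement_def, mul_assoc] using this
  · obtain ⟨r, hr, c, hc, rfl⟩ :=
      Coprime.exists_commutator_mul_centralizer e0 (coprime7 h7 hP) (Or.inr this) hb
    rcases mem_two h5 hn (e1 ▸ hc) n1 with rfl | rfl
    exacts [⟨r, hr, Or.inl (mul_one r)⟩, ⟨r, hr, Or.inr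
      (commutatorElement_eq_one_iff_mul_comm.1 ((EA.bot h1).comm (l hr) hn.1))⟩]

theorem H7.base [hQ : Q.Normal] (h : H7 Q φ s) (h1 : Phi Q = ⊥) : ∃ R c, PM Q ⊥ R s c := by
  have e1 : ∀ x ∈ Q, x * x = 1 := fun x hx => mem_bot.1 (h1 ▸ sq_mem_Phi hx)
  have e2 : ∀ b ∈ Q, s * b * s⁻¹ ∈ Q := fun b hb => hQ.conj_mem b hb s
  have ab := fun x hx y hy => (EA.bot e1).comm (x := x) (y := y) hx hy
  rcases (EA.bot e1).act7 h.rk e2 h.c7 (h1 ▸ h.nt) with ⟨e3, e4⟩ | ⟨e3, e4⟩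
  · exact ⟨Q, 1, bot_le, le_rfl, e3, e1, e2, e4, one_mem _, by simp, by simp,
      fun q hq => ⟨q, hq, 0, by simp⟩, ab⟩
  · rw [card_bot] at e3 e4
    obtain ⟨n, hn, n1⟩ := exists_not_mem (H := ⊥) (B := Cm ⊥ Q s) (by rw [card_bot]; omega)
    obtain ⟨R, a1, a2, a3, a4, a5⟩ := split h.s7 e1 e2 e3 e4 hn n1
    refine ⟨R, n, bot_le, a1, by rw [a2, card_bot], fun r hr => e1 r (a1 hr), a3, a4, hn.1,
      (mem_Cm_bot.1 hn).2, e1 _ (mul_mem hn.1 hn.1), fun q hq => ?_, ab⟩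
    obtain ⟨r, hr, e | e⟩ := a5 q hq
    exacts [⟨r, hr, 0, by simpa using e⟩, ⟨r, hr, 1, by simpa using e⟩]

theorem PM.alt [N.Normal] (h : PM Q N R s c) (h7 : s ^ 7 = 1) {P : X → Prop}
    (h1 : ∀ r ∈ R, P r → P (s * r * s⁻¹)) :
    (∀ x ∈ R, x ∉ N → ¬ P x) ∨ ∀ x ∈ R, x ∉ N → ∃ k ∈ N, P (x * k) := by
  have : Fact (Nat.Prime 7) := ⟨by norm_num⟩
  exact all_or_none (m := 7) h.NR h.card
    (dvd_card_Sb 7 h.inv (fun b _ => by simp [h7]) h.fpf h1)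

theorem PM.comm (h : PM Q N R s c) (h1 : ∀ x ∈ R, x * c = c * x)
    (h2 : ∀ x ∈ R, ∀ y ∈ R, x * y = y * x) : ∀ x ∈ Q, ∀ y ∈ Q, x * y = y * x := by
  intro x hx y hy
  obtain ⟨r, hr, i, rfl⟩ := h.gen x hx
  obtain ⟨r', hr', j, rfl⟩ := h.gen y hy
  exact (((Commute.refl c).pow_pow i j).mul_right (Commute.pow_left (h1 r' hr').symm i)).mul_left
    ((Commute.pow_right (h1 r hr) j).mul_right (h2 r hr r' hr'))

/-- The case of a central involution. -/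
theorem H7.central [hQ : Q.Normal] (h : H7 Q φ s) (n1 : n ≠ 1) (n2 : n * n = 1)
    (n3 : ∀ g, g * n = n * g) (hP : PM Q (zpowers n) R s c) : ∃ R c, PM Q ⊥ R s c := by
  have hN := zpowers_normal n3
  have c2 := card_zpowers_two n2 n1
  have cN : ∀ k ∈ zpowers n, ∀ g, g * k = k * g := by
    rintro _ ⟨i, rfl⟩ g
    exact (Commute.zpow_right (n3 g) i).eq
  have mN : ∀ k ∈ zpowers n, k = 1 ∨ k = n := fun k hk => mem_two c2 (mem_zpowers n) hk n1
  have sN : ∀ k ∈ zpowers n, k * k = 1 := fun k hk => by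
    rcases mN k hk with rfl | rfl
    exacts [one_mul 1, n2]
  have c16 : Nat.card R = 16 := by rw [hP.card, c2]
  obtain ⟨x, hx, nx⟩ := exists_not_mem (H := zpowers n) (B := R) (by omega)
  have e1 : ∀ r ∈ R, r * r = 1 := by
    rcases hP.alt h.s7 (P := fun x => x * x = 1) (fun r _ e => by rw [conj_mul, e]; simp) with e | e
    · obtain ⟨x, hx, n, e4⟩ := aniso (L := ⊥) hP.NR (fun q _ k hk => cN k hk q) hP.sq
        (fun u hu v hv => mul_mem_of_card_eq_two_mul bot_le (by rw [c2, card_bot]) hu hv)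
        (by omega)
      exact (e x hx n e4).elim
    · intro r hr
      by_cases e2 : r ∈ zpowers n
      · exact sN r e2
      · obtain ⟨k, hk, e3⟩ := e r hr e2
        rwa [mul_assoc, ← mul_assoc k, ← cN k hk, mul_assoc, sN k hk, mul_one] at e3
  have hE := EA.bot e1
  have e2 : ∀ r ∈ R, r * c = c * r := by
    rcases hP.alt h.s7 (P := fun x => x * c = c * x) (fun r _ => conj_comm_of hP.cs) with e | e
    · refine (e ⁅s, x⁆ (mul_mem (hP.inv x hx) (inv_mem hx)) (fun k => nx (hP.fpf x hx k)) ?_).elim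
      have e3 := cN _ (hP.ab _ hP.cQ _ (hP.RQ hx))
      rw [eq_comm, ← mul_inv_eq_iff_eq_mul, conjugate_commutatorElement, ← hP.cs,
        mul_inv_cancel_right, show c * x * c⁻¹ = ⁅c, x⁆ * x by rw [commutatorElement_def]; group,
        comm_mul_right, commutatorElement_eq_one_iff_mul_comm.2 (e3 s), one_mul, ← e3,
        mul_inv_cancel_right]
    · intro r hr
      by_cases e2 : r ∈ zpowers n
      · exact (cN r e2 c).symm
      · obtain ⟨k, hk, e3⟩ := e r hr e2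
        rwa [mul_assoc, ← cN k hk, ← mul_assoc, ← mul_assoc, mul_left_inj] at e3
  have ab := hP.comm e2 fun x hx y hy => commutatorElement_eq_one_iff_mul_comm.1 (hE.comm hx hy)
  have ab' : ∀ x ∈ Q, ∀ y ∈ Q, ⁅x, y⁆ ∈ (⊥ : Subgroup X) := comm_bot ab
  have om : ∀ x ∈ Q, x * x = 1 ↔ x ∈ R := fun x hx => ⟨fun e => not_not.1 fun k => by
    have := hE.card_le1 h.rk (fun b hb => ab' x hx b (hP.RQ hb)) e k
    rw [card_bot] at this
    omega, e1 x⟩
  have nR := hP.NR (mem_zpowers n)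
  obtain ⟨R', a1, a2, a3, a4, a5⟩ := split h.s7 e1 hP.inv c16 (by
    rcases hE.act7 h.rk hP.inv h.c7 ⟨x, hx, fun k => nx (hP.fpf x hx (bot_le (a := zpowers n) k))⟩
      with e | e <;> rw [card_bot] at e <;> omega) (mem_Cm_bot.2 ⟨nR, n3 s⟩) n1
  have fin : ∀ c ∈ Q, s * c = c * s → c * c * (c * c) = 1 → (∃ i : ℕ, n = c ^ i) →
      (∀ q ∈ Q, ∃ r ∈ R, ∃ j : ℕ, q = c ^ j * r) → PM Q ⊥ R' s c := fun c c1 c2 c3 ⟨i, hi⟩ c4 =>
    ⟨bot_le, a1.trans hP.RQ, by rw [a2, card_bot], fun r hr => e1 r (a1 hr), a3, a4, c1, c2, c3,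
      fun q hq => by
        obtain ⟨r, hr, j, rfl⟩ := c4 q hq
        obtain ⟨r', hr', rfl | rfl⟩ := a5 r hr
        exacts [⟨_, hr', j, rfl⟩, ⟨_, hr', j + i, by rw [hi, pow_add, mul_assoc]⟩], ab'⟩
  by_cases k1 : c ∈ R
  · exact ⟨_, _, fin n (hP.RQ nR) (n3 s) (by rw [n2, one_mul]) ⟨1, (pow_one n).symm⟩ fun q hq => by
      obtain ⟨r, hr, j, rfl⟩ := hP.gen q hq
      exact ⟨_, mul_mem (pow_mem k1 j) hr, 0, by simp⟩⟩
  by_cases k2 : c * c ∈ R
  · refine ⟨_, _, fin c hP.cQ hP.cs (e1 _ k2) ⟨2, ?_⟩ hP.gen⟩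
    rw [pow_two]
    exact ((mN _ (hP.fpf _ k2 (by
      rw [commutatorElement_eq_one_iff_commute.2 ((Commute.mul_right hP.cs hP.cs))]
      exact one_mem _))).resolve_left fun e => k1 ((om c hP.cQ).1 e)).symm
  exfalso
  have : R.Normal := ⟨fun r hr g => (om _ (hQ.conj_mem r (hP.RQ hr) g)).1 (by
    rw [conj_mul, e1 r hr]; simp)⟩
  obtain ⟨ψ, π, hC⟩ := h.rep.crd ⟨hP.NR, hP.sq, fun x _ k hk => hN.conj_mem k hk x⟩ hP.card
    (fun q hq b hb => hP.ab q hq b (hP.RQ hb)) ⟨x, hx, fun k => nx (hP.fpf x hx k)⟩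
  have hζ : ∀ g, g * (c * c) = c * c * g := fun g => central_of (N := Phi Q) h.rep.simple
    (fun q hq k hk => ab q hq k (Phi_le hk)) h.sQ (fun ⟨k, hk, e⟩ => e (by
      refine commutatorElement_eq_one_iff_mul_comm.2 (mem_centralizer_singleton_iff.1
        ((Phi_le_iff.2 fun q hq => ?_ : Phi Q ≤ centralizer {s}) hk)).symm
      have e3 : c * c ∈ centralizer {s} :=
        mem_centralizer_singleton_iff.2 (Commute.mul_right hP.cs hP.cs).eq.symm
      have e4 : zpowers n ≤ centralizer {s} := fun k hk =>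
        mem_centralizer_singleton_iff.2 (cN k hk s).symm
      rcases hP.sq_cases hq with e | e
      · exact e4 e
      · simpa only [inv_mul_cancel_right] using mul_mem (e4 e) e3)) g _ (sq_mem_Phi hP.cQ)
  refine hC.not_Z8 h.rk hP.RQ ab om cN c2 c16 hP.cQ hζ hP.c4 k2 (fun g => ?_) hP.gen
  have e3 := hQ.conj_mem c hP.cQ g
  rw [commutatorElement_def, ← om _ (mul_mem e3 (inv_mem hP.cQ)), mul_assoc, ← mul_assoc c⁻¹, ab _ (inv_mem hP.cQ) _ e3,
    mul_assoc _ c⁻¹, ← mul_assoc, conj_mul, hζ]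
  group

end Cfsg.Lib.GHB
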