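import Cfsg.Agent.GHB.L3c

/-! Extensions of a 2-group by `GL₃(2)` of sectional 2-rank at most four: the induction. -/

set_option autoImplicit false

namespace Cfsg.Lib.GHB

open Subgroup Cfsg.Lib.Solv Cfsg.Lib.Solv.PG Matrix
open scoped commutatorElement

universe u

variable {X : Type u} [Group X] {K B Q N H M R V W : Subgroup X}
  {g a b c d e n s x y z : X} {φ ψ : X →* M3} {π : X → V3}

/-- `W = Ω₁(Z(Q))` contains no central element of `X`. -/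
structure OZ (Q W : Subgroup X) : Prop where
  mem : ∀ x, x ∈ W ↔ x ∈ Q ∧ (∀ q ∈ Q, q * x = x * q) ∧ x * x = 1
  cen : ∀ n ∈ Q, n * n = 1 → (∀ g, g * n = n * g) → n = 1

theorem exists_W [hQ : Q.Normal] : ∃ W : Subgroup X, W.Normal ∧
    ∀ x, x ∈ W ↔ x ∈ Q ∧ (∀ q ∈ Q, q * x = x * q) ∧ x * x = 1 := by
  refine ⟨SqIn (Q ⊓ centralizer (Q : Set X)) ⊥ (comm_bot fun q hq n hn => hn.2 q hq.1),
    ⟨fun x hx g => ⟨Normal.conj_mem inferInstance _ hx.1 g, ?_⟩⟩, fun x => and_assoc⟩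
  rw [conj_mul, mem_bot.1 hx.2]
  simp

namespace OZ

theorem le (h : OZ Q W) : W ≤ Q := fun x hx => ((h.mem x).1 hx).1

theorem comm (h : OZ Q W) : ∀ q ∈ Q, ∀ w ∈ W, q * w = w * q := fun q hq w hw =>
  ((h.mem w).1 hw).2.1 q hq

theorem sq (h : OZ Q W) : ∀ w ∈ W, w * w = 1 := fun w hw => ((h.mem w).1 hw).2.2

theorem mul_sq (h : OZ Q W) (hx : x ∈ Q) (hy : y ∈ W) : y * x * (y * x) = x * x := by
  rw [mul_assoc, ← mul_assoc x, h.comm x hx y hy, mul_assoc, ← mul_assoc, h.sq y hy, one_mul]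

theorem mul_sq' (h : OZ Q W) (hx : x ∈ Q) (hy : y ∈ W) : x * y * (x * y) = x * x := by
  rw [h.comm x hx y hy, h.mul_sq hx hy]

theorem fix_sq (h : OZ Q W) (hx : x ∈ Q) (e : ⁅g, x⁆ ∈ W) : g * (x * x) = x * x * g := by
  rw [← mul_inv_eq_iff_eq_mul, ← conj_mul, ← h.mul_sq hx e, commutatorElement_def,
    inv_mul_cancel_right]

theorem nf [Q.Normal] [V.Normal] (h : OZ Q W) (h' : Rep Q φ) (hg : g ∉ Q) (hV : V ≤ W)
    (h0 : V ≠ ⊥) : ∃ v ∈ V, ⁅g, v⁆ ∉ (⊥ : Subgroup X) := by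
  by_contra e
  exact h0 (eq_bot_iff.2 fun v hv => h.cen v (h.le (hV hv)) (h.sq v (hV hv)) fun g =>
    central_of h'.simple (fun q hq n hn => h.comm q hq n (hV hn)) hg e g v hv)

variable [Finite X] [hQ : Q.Normal] [hW : W.Normal]

theorem case16 [N.Normal] (h : OZ Q W) (h7 : H7 Q φ s) (hP : PM Q N R s c) (hN : N ≤ W)
    (h8 : 8 ≤ Nat.card N) (h16 : Nat.card W = 16) : False := by
  have hE := EA.bot h.sq
  have k1 : ∀ x ∈ Q, x * x = 1 → x ∈ W := fun x hx e => not_not.1 fun n => by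
    have := hE.card_le1 h7.rk (comm_bot h.comm x hx) e n
    rw [card_bot] at this
    omega
  have k2 : ∀ b ∈ Q, b * b ∈ W → (∀ g : X, ⁅g, b⁆ ∈ W) → b ∈ W := fun b hb e e' =>
    k1 b hb (h.cen _ (mul_mem hb hb) (h.sq _ e) fun g => h.fix_sq hb (e' g))
  have k3 : c * c ∈ W := by
    by_contra n
    refine n (k2 _ (mul_mem hP.cQ hP.cQ) (hN hP.c4) fun g => ?_)
    rcases hP.sq_cases (hQ.conj_mem c hP.cQ g) with e | e <;> rw [conj_mul] at e
    · exact (n (by simpa [mul_assoc] using hW.conj_mem _ (hN e) g⁻¹)).elim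
    · exact hN e
  have hE' : EA W Q := EA.of_normal h.le fun x hx => by
    rcases hP.sq_cases hx with e | e
    · exact hN e
    · simpa only [inv_mul_cancel_right] using mul_mem (hN e) k3
  have c1 := fun q hq b hb => hE'.comm (x := q) (y := b) hq hb
  have k4 : ∀ b ∈ Q, (∀ g : X, ⁅g, b⁆ ∈ W) → b ∈ W := fun b hb => k2 b hb (hE'.sq b hb)
  have k5 : ∃ b ∈ Q, ⁅s, b⁆ ∉ W := by
    obtain ⟨b, hb, n⟩ := exists_not_mem (H := W) (B := R) (by rw [hP.card]; omega)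
    obtain ⟨g, hg⟩ := not_forall.1 fun e => n (k4 b (hP.RQ hb) e)
    exact faithful h7.rep.simple c1 ⟨b, hP.RQ hb, hg⟩ h7.sQ
  obtain ⟨ψ, a, r1, r2, r3, r4⟩ : ∃ (ψ : X →* M3) (a : X), Rep Q ψ ∧ ψ a = mE ∧ a * a ∈ W ∧
      8 * Nat.card W ≤ Nat.card Q := by
    rcases hE'.act7 h7.rk (fun b hb => hQ.conj_mem b hb s) h7.c7 k5 with ⟨e, -⟩ | ⟨e, -⟩
    · obtain ⟨ψ, π, hC⟩ := h7.rep.crd hE' e c1 k5
      obtain ⟨d, hd⟩ := hC.onto mD (mD * mD) (by decide +kernel)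
      obtain ⟨a, ha⟩ := hC.onto mE mE (by decide +kernel)
      obtain ⟨a, a1, a2, -⟩ := hC.adjust le_rfl ha hd (hC.facts ha hd).1 (hC.facts ha hd).2.1
      exact ⟨ψ, a, hC.toRep, a1, a2, e.ge⟩
    · obtain ⟨a, ha⟩ := h7.rep.onto mE mE (by decide +kernel)
      obtain ⟨g, g', e1⟩ := h7.rep.gen3 ha
      obtain ⟨b, hb, e2⟩ := hE'.adjust (fun b hb => hQ.conj_mem b hb a)
        ((h7.rep.ker _).1 (by rw [map_mul, ha]; decide +kernel)) e
        (hE'.card_Cm_of_gen h7.rk c1 e1 e k4)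
      exact ⟨φ, b * a, h7.rep, by rw [map_mul, (h7.rep.ker b).2 hb, one_mul, ha], e2, by omega⟩
  obtain ⟨g, g', e1⟩ := r1.gen3 r2
  have e2 := hE.card_Cm_of_gen h7.rk (comm_bot h.comm) e1 (by rw [card_bot, h16]) fun b hb e =>
    h.cen b (h.le hb) (h.sq b hb) fun g => commutatorElement_eq_one_iff_mul_comm.1 (e g)
  have e3 := hE'.card_le_sq (fun c hc => hQ.conj_mem c hc a) fun _ hb => c1 _ (h.le r3) _ hb
  have e4 := card_le_of_invol h7.rk (le_Cm (K := W) (g := a) h.le) h.sq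
    (fun u hu => h.comm u hu.1) (fun u hu => hE'.sq u hu.1) (fun u hu => hu.2) r3
    fun hu => absurd (r2 ▸ (r1.ker a).2 hu.1) (by decide +kernel)
  rw [card_bot] at e2
  rw [h16] at e3 r4
  nlinarith

theorem card_fix3 (h : OZ Q W) (h7 : H7 Q φ s) (h8 : Nat.card W = 8) (d3 : d ^ 3 ∈ Q)
    (dQ : d ∉ Q) : Nat.card (Cm ⊥ W d) = 2 := by
  rcases (EA.bot h.sq).act3 h7.rk (fun b hb => hW.conj_mem b hb d) (comm_bot h.comm _ d3)
    (h.nf h7.rep dQ le_rfl fun e => by rw [e, card_bot] at h8; omega) with e | ⟨e, -⟩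
  · omega
  · rw [card_bot] at e
    omega

theorem normal8 (h : OZ Q W) (h7 : H7 Q φ s) (hP : PM Q W R s c) (h8 : Nat.card W = 8)
    (cc : c * c = 1) (k1 : ∀ r ∈ R, r * r = 1 → r ∈ W) :
    R.Normal ∧ (∀ q ∈ Q, q ∉ R → ∃ r ∈ R, q = c * r) ∧ (c ∉ R → ∀ r ∈ R, c * r * (c * r) = 1) := by
  have k2 : ∀ q ∈ Q, q ∉ R → ∃ r ∈ R, q = c * r := fun q hq n => by
    obtain ⟨r, hr, j, rfl⟩ := hP.gen q hq
    obtain ⟨i, rfl | rfl⟩ := j.even_or_odd'
    · exact (n (by rwa [pow_mul, pow_two, cc, one_pow, one_mul])).elim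
    · exact ⟨r, hr, by rw [pow_succ, pow_mul, pow_two, cc, one_pow, one_mul]⟩
  by_cases hc : c ∈ R
  · have : R = Q := le_antisymm hP.RQ fun q hq => not_not.1 fun n => by
      obtain ⟨r, hr, rfl⟩ := k2 q hq n
      exact n (mul_mem hc hr)
    exact ⟨this ▸ hQ, k2, fun n => (n hc).elim⟩
  have k3 : ∀ r ∈ R, c * r * (c * r) = 1 := by
    rcases hP.alt h7.s7 (P := fun x => c * x * (c * x) = 1) (fun r _ e => by
      rw [← mul_assoc c, ← mul_assoc c, ← hP.cs, mul_assoc s c, conj_mul, e]; simp) with e | e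
    swap
    · intro r hr
      by_cases e1 : r ∈ W
      · rw [h.mul_sq' hP.cQ e1, cc]
      · obtain ⟨k, hk, e2⟩ := e r hr e1
        rwa [← mul_assoc c, h.mul_sq' (mul_mem hP.cQ (hP.RQ hr)) hk] at e2
    exfalso
    have cW : c ∉ W := fun k => hc (hP.NR k)
    have hE : EA W Q := EA.of_normal h.le fun x hx => (hP.sq_cases hx).elim id fun e => by
      rwa [cc, inv_one, mul_one] at e
    have i1 : ∀ x ∈ Q, x * x = 1 → x ∈ W ∨ c⁻¹ * x ∈ W := fun x hx e1 => by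
      by_cases e2 : x ∈ R
      · exact Or.inl (k1 x e2 e1)
      · obtain ⟨r, hr, rfl⟩ := k2 x hx e2
        exact Or.inr (by rw [inv_mul_cancel_left]; exact not_not.1 fun n => e r hr n e1)
    have i2 : ∀ g : X, ⁅g, c⁆ ∈ W := fun g => by
      rcases i1 _ (hQ.conj_mem c hP.cQ g) (by rw [conj_mul, cc]; simp) with e1 | e1
      · exact (cW (by simpa [mul_assoc] using hW.conj_mem _ e1 g⁻¹)).elim
      · simpa [mul_assoc, commutatorElement_def] using hW.conj_mem _ e1 c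
    obtain ⟨d, hd⟩ := h7.rep.onto mD (mD * mD) (by decide +kernel)
    obtain ⟨a, ha⟩ := h7.rep.onto mE mE (by decide +kernel)
    obtain ⟨d3, dQ⟩ := (h7.rep.facts ha hd).2.2.2.2.2.2
    have cw : ∀ b ∈ W, c * b * c⁻¹ ∈ W := fun b hb => hW.conj_mem b hb c
    have j1 := card_adj cw (cc ▸ one_mem _) cW
    have j2 : Nat.card Q = 2 * Nat.card R := by
      have cr := conj_of_comm hP.NR fun b hb => hP.ab c hP.cQ b (hP.RQ hb)
      rw [← card_adj cr (cc ▸ one_mem _) hc]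
      congr 2
      refine le_antisymm (fun q hq => (mem_adj cr (cc ▸ one_mem _)).2 (or_iff_not_imp_left.2
        fun n => ?_)) (sup_le hP.RQ (zpowers_le.2 hP.cQ))
      obtain ⟨r, hr, rfl⟩ := k2 q hq n
      rwa [inv_mul_cancel_left]
    obtain ⟨x, hx, nx⟩ := exists_not_mem (H := W ⊔ zpowers c) (B := Cm W Q d) (by
      have j3 := hP.card
      by_cases e1 : ∃ b ∈ Q, ⁅d, b⁆ ∉ W
      · rcases hE.act3 h7.rk (fun b hb => hQ.conj_mem b hb d) (fun _ hb => hE.comm d3 hb) e1 with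
          e2 | ⟨-, e2⟩
        · omega
        · exact (cW (e2 c hP.cQ (i2 d))).elim
      · have := card_le_of_le (show Q ≤ Cm W Q d from fun b hb =>
          ⟨hb, not_not.1 fun n => e1 ⟨b, hb, n⟩⟩)
        omega)
    rw [mem_adj cw (cc ▸ one_mem _)] at nx
    have hx' : c⁻¹ * x ∈ Cm W Q d := mul_mem (inv_mem ⟨hP.cQ, i2 d⟩) hx
    have m : ∀ y ∈ Cm W Q d, y * y ∈ Cm ⊥ W d := fun y hy =>
      mem_Cm_bot.2 ⟨hE.sq y hy.1, h.fix_sq hy.1 hy.2⟩
    have ci : c⁻¹ = c := inv_eq_of_mul_eq_one_right cc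
    have j4 := (mem_two (h.card_fix3 h7 h8 d3 dQ) (m _ hx) (m _ hx') fun e =>
      nx (i1 x hx.1 e)).resolve_left fun e => nx ((i1 _ hx'.1 e).symm.imp_left fun e => by
        rwa [ci, ← mul_assoc, cc, one_mul] at e)
    have j5 : x * c = c * x := by
      rw [ci, ← mul_assoc, mul_left_inj] at j4
      calc x * c = c * x * c * c := by rw [j4]
        _ = _ := by rw [mul_assoc, cc, mul_one]
    have j6 : ∀ r ∈ R, r * c = c * r := by
      rcases hP.alt h7.s7 (P := fun x => x * c = c * x) (fun r _ => conj_comm_of hP.cs) with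
        e1 | e1
      · by_cases e2 : x ∈ R
        · exact (e1 x e2 (fun k => nx (Or.inl k)) j5).elim
        · obtain ⟨r, hr, rfl⟩ := k2 x hx.1 e2
          exact (e1 r hr (fun k => nx (Or.inr (by rwa [inv_mul_cancel_left])))
            (by rwa [mul_assoc, mul_right_inj] at j5)).elim
      · intro r hr
        by_cases e2 : r ∈ W
        · exact (h.comm c hP.cQ r e2).symm
        · obtain ⟨k, hk, e3⟩ := e1 r hr e2
          rwa [mul_assoc, ← h.comm c hP.cQ k hk, ← mul_assoc, ← mul_assoc, mul_left_inj] at e3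
    refine cW ((h.mem c).2 ⟨hP.cQ, fun q hq => ?_, cc⟩)
    by_cases e2 : q ∈ R
    · exact j6 q e2
    · obtain ⟨r, hr, rfl⟩ := k2 q hq e2
      rw [mul_assoc, j6 r hr]
  refine ⟨⟨fun r hr g => not_not.1 fun n => ?_⟩, k2, fun _ => k3⟩
  obtain ⟨r', hr', e⟩ := k2 _ (hQ.conj_mem r (hP.RQ hr) g) n
  have e1 := k3 r' hr'
  rw [← e, conj_mul, conj_eq_one_iff] at e1
  exact n (hP.NR (hW.conj_mem _ (k1 r hr e1) g))

theorem abelian8 (h : OZ Q W) (h7 : H7 Q φ s) (hP : PM Q W R s c) (h8 : Nat.card W = 8)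
    (k1 : ∀ r ∈ R, r * r = 1 → r ∈ W) (hC : Crd Q W R ψ π) : ∀ x ∈ R, ∀ y ∈ R, x * y = y * x := by
  have ab := fun x hx y hy => hP.ab x (hP.RQ hx) y (hP.RQ hy)
  have cg1 : ∀ x ∈ R, ∀ x' ∈ R, ∀ y ∈ R, π x = π x' → ⁅x, y⁆ = ⁅x', y⁆ := fun x hx x' hx' y hy e => by
    have e1 := hC.mem_of_eq hx hx' e
    rw [← inv_mul_cancel_right x x', comm_mul_left, ← h.comm _ (h.le (ab _ hx' _ hy)) _ e1,
      mul_inv_cancel_right,
      commutatorElement_eq_one_iff_mul_comm.2 (h.comm y (hP.RQ hy) _ e1).symm, mul_one]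
  have sy : ∀ x ∈ R, ∀ y ∈ R, ⁅x, y⁆ = ⁅y, x⁆ := fun x hx y hy => by
    rw [← commutatorElement_inv, inv_eq_of_mul_eq_one_right (h.sq _ (ab _ hy _ hx))]
  have cg : ∀ g, ∀ x ∈ R, ∀ x' ∈ R, ∀ y ∈ R, ∀ y' ∈ R, ψ g *ᵥ π x = π x' → ψ g *ᵥ π y = π y' →
      g * ⁅x, y⁆ * g⁻¹ = ⁅x', y'⁆ := fun g x hx x' hx' y hy y' hy' e e' => by
    rw [conjugate_commutatorElement, cg1 _ (hC.nrm g x hx) _ hx' _ (hC.nrm g y hy)
      ((hC.conj g x hx).trans e), sy _ hx' _ (hC.nrm g y hy),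
      cg1 _ (hC.nrm g y hy) _ hy' _ hx' ((hC.conj g y hy).trans e'), sy _ hy' _ hx']
  obtain ⟨d, hd⟩ := hC.onto mD (mD * mD) (by decide +kernel)
  obtain ⟨e, he⟩ := hC.onto mE mE (by decide +kernel)
  obtain ⟨d3, dQ⟩ := (hC.facts he hd).2.2.2.2.2.2
  obtain ⟨r₀, h0, e0⟩ := hC.sur ![1, 0, 0]
  obtain ⟨r₁, h1, e1⟩ := hC.sur ![0, 1, 0]
  obtain ⟨r₂, h2, e2⟩ := hC.sur ![0, 0, 1]
  have n0 : r₀ ∉ W := by rw [← hC.zero _ h0, e0]; decide +kernel
  have fx : ∀ g, ψ g *ᵥ π r₀ + π r₀ = 0 → g * (r₀ * r₀) = r₀ * r₀ * g := fun g e =>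
    h.fix_sq (hP.RQ h0) ((hC.zero _ (hC.comm_mem g h0)).1 ((hC.comm g h0).trans e))
  have a1 := cg d _ h1 _ h2 _ h2 _ (mul_mem h1 h2) (by rw [hd, e1, e2]; decide +kernel)
    (by rw [hC.add _ h1 _ h2, hd, e1, e2]; decide +kernel)
  rw [comm_mul_right, commutatorElement_self, mul_one, mul_inv_cancel, mul_one, sy _ h2 _ h1,
    mul_inv_eq_iff_eq_mul] at a1
  have a2 : e * ⁅r₁, r₂⁆ * e⁻¹ = ⁅r₁, r₂⁆ := by
    rcases mem_two (h.card_fix3 h7 h8 d3 dQ) (mem_Cm_bot.2 ⟨hP.sq _ h0,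
      fx d (by rw [hd, e0]; decide +kernel)⟩) (mem_Cm_bot.2 ⟨ab _ h1 _ h2, a1⟩)
      (fun k => n0 (k1 _ h0 k)) with k | k <;> rw [k]
    · simp
    · rw [fx e (by rw [he, e0]; decide +kernel), mul_inv_cancel_right]
  rw [cg e _ h1 _ h1 _ h2 _ (mul_mem h0 h2) (by rw [he, e1]; decide +kernel)
    (by rw [hC.add _ h0 _ h2, he, e0, e2]; decide +kernel), comm_mul_right,
    h.comm _ (hP.RQ h0) _ (ab _ h1 _ h2), mul_inv_cancel_right, mul_eq_right] at a2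
  have a3 := cg d _ h1 _ h2 _ h0 _ h0 (by rw [hd, e1, e2]; decide +kernel)
    (by rw [hd, e0]; decide +kernel)
  rw [a2, mul_one, mul_inv_cancel, eq_comm] at a3
  rw [commutatorElement_eq_one_iff_commute] at a2 a3
  have a4 : ∀ y ∈ R, r₀ * y = y * r₀ := fun y hy => by
    have pw : ∀ {r : X}, r ∈ R → ∀ n : ℕ, π (r ^ n) = n • π r := fun hr n => by
      induction n with
      | zero => rw [pow_zero, hC.one, zero_smul]
      | succ n ih => rw [pow_succ, hC.add _ (pow_mem hr n) _ hr, ih, succ_nsmul]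
    have m1 := mul_mem (pow_mem h0 (π y 0).val) (pow_mem h1 (π y 1).val)
    have m2 := mul_mem m1 (pow_mem h2 (π y 2).val)
    have m3 := hC.mem_of_eq hy m2 (by
      rw [hC.add _ m1 _ (pow_mem h2 _), hC.add _ (pow_mem h0 _) _ (pow_mem h1 _), pw h0, pw h1,
        pw h2, e0, e1, e2]
      generalize π y = v
      revert v
      decide +kernel)
    rw [← inv_mul_cancel_right y _]
    exact (Commute.mul_right (h.comm _ (hP.RQ h0) _ m3) ((((Commute.refl r₀).pow_right _).mul_right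
      (a2.symm.pow_right _)).mul_right (a3.symm.pow_right _))).eq
  rcases hP.alt h7.s7 (P := fun x => ∀ y ∈ R, x * y = y * x) (fun r _ e y hy => by
    have := e _ (hC.nrm s⁻¹ y hy)
    calc _ = s * (r * (s⁻¹ * y * s⁻¹⁻¹)) * s⁻¹ := by group
      _ = _ := by rw [this]; group) with e3 | e3
  · exact (e3 r₀ h0 n0 a4).elim
  intro x hx y hy
  by_cases e4 : x ∈ W
  · exact (h.comm y (hP.RQ hy) x e4).symm
  · obtain ⟨k, hk, e5⟩ := e3 x hx e4
    have := e5 y hy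
    rwa [mul_assoc, ← h.comm y (hP.RQ hy) k hk, ← mul_assoc, ← mul_assoc, mul_left_inj] at this

theorem case8 (h : OZ Q W) (h7 : H7 Q φ s) (hP : PM Q W R s c) (h8 : Nat.card W = 8)
    (fp : ∀ w ∈ W, ⁅s, w⁆ ∈ (⊥ : Subgroup X) → w ∈ (⊥ : Subgroup X)) : False := by
  have s2 : Commute s (c * c) := Commute.mul_right hP.cs hP.cs
  have cc : c * c = 1 := fp _ ((h.mem _).2 ⟨mul_mem hP.cQ hP.cQ, fun q hq => by
      obtain ⟨r, hr, j, rfl⟩ := hP.gen q hq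
      have e := hP.ab _ hP.cQ _ (hP.RQ hr)
      refine (Commute.mul_left (((Commute.refl c).mul_right (Commute.refl c)).pow_left j)
        (commutatorElement_eq_one_iff_commute.1 ?_).symm).eq
      rw [comm_mul_left, h.comm _ hP.cQ _ e, mul_inv_cancel_right, h.sq _ e],
    fp _ hP.c4 (commutatorElement_eq_one_iff_commute.2 (s2.mul_right s2))⟩)
    (commutatorElement_eq_one_iff_commute.2 s2)
  have c64 := hP.card
  have k1 : ∀ r ∈ R, r * r = 1 → r ∈ W := by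
    rcases hP.alt h7.s7 (P := fun x => x * x = 1) (fun r _ e => by rw [conj_mul, e]; simp) with
      e | e
    · exact fun r hr e1 => not_not.1 fun n => e r hr n e1
    · have := (EA.bot (B := R) fun r hr => by
        by_cases e2 : r ∈ W
        · exact h.sq r e2
        · obtain ⟨k, hk, e3⟩ := e r hr e2
          rwa [h.mul_sq' (hP.RQ hr) hk] at e3).card_le h7.rk
      rw [card_bot] at this
      omega
  obtain ⟨hR, k2, k3⟩ := h.normal8 h7 hP h8 cc k1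
  obtain ⟨x, hx, nx⟩ := exists_not_mem (H := W) (B := R) (by omega)
  obtain ⟨ψ, π, hC⟩ := h7.rep.crd (EA.of_normal hP.NR hP.sq) hP.card
    (fun q hq b hb => hP.ab q hq b (hP.RQ hb)) ⟨x, hx, fun k => nx (hP.fpf x hx k)⟩
  have ab := h.abelian8 h7 hP h8 k1 hC
  refine hC.not_Z4 h7.rk h7.two hP.RQ ab (fun x hx => ⟨k1 x hx, h.sq x⟩) h8
    (fun q hq n r hr => ?_) fun q hq q' hq' n n' => ?_
  · obtain ⟨r', hr', rfl⟩ := k2 q hq n
    rw [mul_assoc c, ab r' hr' r hr, _root_.mul_inv_rev, ← mul_assoc, ← mul_assoc, mul_inv_cancel_right,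
      inv_eq_of_mul_eq_one_right cc, eq_inv_iff_mul_eq_one, mul_assoc]
    exact k3 (fun k => n (mul_mem k hr')) r hr
  · obtain ⟨r, hr, rfl⟩ := k2 q hq n
    obtain ⟨r', hr', rfl⟩ := k2 q' hq' n'
    have := mul_mem (hR.conj_mem r hr c) hr'
    rwa [inv_eq_of_mul_eq_one_right cc, mul_assoc] at this

end OZ

theorem H7.main (X : Type u) [Group X] [Finite X] : ∀ (Q : Subgroup X) [Q.Normal]
    (φ : X →* M3) (s : X), H7 Q φ s → ∃ R c, PM Q ⊥ R s c := by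
  refine card_induction (P := fun X _ _ => ∀ (Q : Subgroup X) [Q.Normal]
    (φ : X →* M3) (s : X), H7 Q φ s → ∃ R c, PM Q ⊥ R s c) (fun X _ _ ih Q hQ φ s h => ?_) X
  have key : ∀ (N : Subgroup X) [N.Normal], N ≠ ⊥ → N ≤ Q → (∃ q ∈ Q, ⁅s, q⁆ ∉ Phi Q ⊔ N) →
      ∃ R c, PM Q N R s c := fun N _ h0 h1 h2 => by
    obtain ⟨φ', h'⟩ := h.quot h1 h2
    have := hQ.map _ (QuotientGroup.mk'_surjective N)
    obtain ⟨R, c, hP⟩ := ih _ (card_quotient_lt h0) _ _ _ h'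
    exact hP.pull h1 h.two h.s7
  by_cases h1 : Phi Q = ⊥
  · exact h.base h1
  by_cases h2 : ∀ n ∈ Q, n * n = 1 → (∀ g, g * n = n * g) → n = 1
  · exfalso
    obtain ⟨W, hW, e⟩ := exists_W (Q := Q)
    have hO : OZ Q W := ⟨e, h2⟩
    obtain ⟨N, hN, l⟩ := exists_isMinNormal_le _ h1
    have := hN.normal
    obtain ⟨n1, n2⟩ := min_facts h.two hN (l.trans Phi_le)
    have l2 : N ≤ W := fun x hx => (e x).2 ⟨Phi_le (l hx), fun q hq => n2 q hq x hx, n1 x hx⟩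
    obtain ⟨R, c, hP⟩ := key N hN.ne_bot (l.trans Phi_le) (by rw [sup_eq_left.2 l]; exact h.nt)
    have c1 : 8 ≤ Nat.card N := by
      rcases (EA.bot n1).act7 h.rk (fun b hb => this.conj_mem b hb s) h.c7
        (hO.nf h.rep h.sQ l2 hN.ne_bot) with ⟨e, -⟩ | ⟨e, -⟩ <;> rw [card_bot] at e <;> omega
    rcases (EA.bot hO.sq).act7 h.rk (fun b hb => hW.conj_mem b hb s) h.c7
      (hO.nf h.rep h.sQ le_rfl fun e => hN.ne_bot (eq_bot_iff.2 (e ▸ l2))) with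
      ⟨e1, e2⟩ | ⟨e1, -⟩ <;> rw [card_bot] at e1
    · obtain rfl := eq_of_le_of_card_ge l2 (by omega)
      exact hO.case8 h hP e1 e2
    · exact hO.case16 h hP l2 c1 e1
  · simp only [not_forall] at h2
    obtain ⟨n, hn, n2, n3, n1⟩ := h2
    have := zpowers_normal n3
    obtain ⟨R, c, hP⟩ := key (zpowers n) (zpowers_ne_bot.2 n1) (zpowers_le.2 hn) (by
      obtain ⟨q, hq, e⟩ := h.nt
      refine ⟨q, hq, fun k => e (odd7 h.s7 ?_ (sq_mem_Phi (commutator_mem_right hq s)))⟩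
      obtain ⟨f, hf, _, ⟨i, rfl⟩, e1⟩ := mem_sup_of_normal_right.1 k
      rw [← e1, comm_mul_right,
        commutatorElement_eq_one_iff_commute.2 (Commute.zpow_right (n3 s) i)]
      simpa using commutator_mem_right hf s)
    exact h.central n1 n2 n3 hP

end Cfsg.Lib.GHB
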